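import Cfsg.Agent.Lib.TwistSquare.D4Torus

/-!
# A regular split element covers ³D₄(q) for `q ≥ 4`
-/

set_option autoImplicit false
set_option linter.unusedSectionVars false

namespace CfsgLib.TwistSquare

open Cfsg.Lie CfsgLib.ChevStr CfsgLib.ChevStr.ChevCore CfsgLib.Twisted CfsgLib.TwistMult
open scoped MatrixGroups

universe u

section chev

variable {D : ChevalleyDatum} {F : Type*} [Field F] (C : ChevCore D F)

/-- A fixed point of a torus element involves only the roots trivial on it. -/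
theorem fixed_Ucl {S : Set ℕ} (hS : C.R.IsClosed S) (c : Fin D.rank → Fˣ) {g : GL D.Idx F}
    (hg : g ∈ C.Ucl S) (hc : C.R.torus c * g * (C.R.torus c)⁻¹ = g) :
    g ∈ C.Ucl {r | r ∈ S ∧ C.R.torusChar c (C.R.α r) = 1} := by
  classical
  have hset := C.setOf_mem_rootList (S := S) fun r hr => (hS.1 r hr).1
  have hp : (C.rootList S).Pairwise (· < ·) := sorted_filter _
  have hmem : ∀ r ∈ C.rootList S, r ∈ S := fun r hr => hset ▸ hr
  obtain ⟨t, rfl⟩ := C.exists_word hp (by rwa [hset]) g (by rwa [hset])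
  have hconj : ∀ L : List ℕ, (∀ r ∈ L, r < D.nroots) →
      C.R.torus c * C.word L t * (C.R.torus c)⁻¹ =
        C.word L fun r => (C.R.torusChar c (C.R.α r) : F) * t r := by
    intro L
    induction L with
    | nil => intro _; simp [C.word_nil]
    | cons k L ih =>
      intro h
      rw [C.word_cons, C.word_cons, ← ih fun r hr => h r (List.mem_cons_of_mem _ hr),
        ← C.acts_torus c ⟨k, h k List.mem_cons_self⟩ (t k)]
      group
  rw [hconj _ fun r hr => (hS.1 r (hmem r hr)).1] at hc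
  have he := C.word_injective hp (fun r hr => hS.1 r (hmem r hr)) _ _ hc
  refine Subgroup.list_prod_mem _ fun x hx => ?_
  simp only [List.map_map, List.mem_map, Function.comp] at hx
  obtain ⟨r, hr, rfl⟩ := hx
  by_cases h0 : t r = 0
  · rw [h0, C.xGL_zero]; exact one_mem _
  · refine C.xGL_mem_Ucl (S := {r | r ∈ S ∧ C.R.torusChar c (C.R.α r) = 1}) ⟨hmem r hr, ?_⟩ _
    exact Units.ext (mul_right_cancel₀ h0 ((he r hr).trans (one_mul _).symm))

theorem char_neg (c : Fin D.rank → Fˣ) (r : Fin D.nroots) :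
    C.R.torusChar c (C.R.α (D.neg r)) = (C.R.torusChar c (C.R.α r))⁻¹ := by
  rw [C.R.α_neg _ r.isLt, ← neg_one_zsmul, C.R.torusChar_zsmul, _root_.zpow_neg_one]

theorem char_inv (c : Fin D.rank → Fˣ) (v : Fin D.rank → ℤ) :
    C.R.torusChar c⁻¹ v = (C.R.torusChar c v)⁻¹ := by
  have h := C.R.torusChar_mul c⁻¹ c v
  rw [inv_mul_cancel] at h
  refine eq_inv_of_mul_eq_one_left (h.symm.trans ?_)
  simp [RootData.torusChar]

/-- A torus element is given by the values of the roots. -/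
theorem torus_ext {c c' : Fin D.rank → Fˣ}
    (h : ∀ r : Fin D.nroots, C.R.torusChar c (C.R.α r) = C.R.torusChar c' (C.R.α r)) :
    C.R.torus c = C.R.torus c' := by
  refine Units.ext ?_
  rw [C.R.coe_torus, C.R.coe_torus]
  congr 1
  funext a
  rcases a with j | s
  · rw [C.R.wt_inl, C.R.torusChar_zero, C.R.torusChar_zero]
  · rw [C.R.wt_inr, h s]

/-- A monomial element permutes the characters of the torus. -/
theorem conj_torus_char {n : GL D.Idx F} (hn : n ∈ D.monomialSubgroup F)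
    {w : Equiv.Perm (Fin D.nroots)} (hmv : C.Moves n w) (c : Fin D.rank → Fˣ) :
    ∃ d, n * C.R.torus c * n⁻¹ = C.R.torus d ∧
      ∀ r, C.R.torusChar d (C.R.α (w r)) = C.R.torusChar c (C.R.α r) := by
  obtain ⟨m, hm, hact⟩ := C.exists_rep hmv.1
  have hmono := C.rep_mem_monomial hm
  obtain ⟨e, he⟩ : m⁻¹ * n ∈ C.R.torus.range := C.diagonalSubgroup_eq ▸
    C.mem_diagonal_of_moves_one (mul_mem (inv_mem hmono) hn) (by
      have h := ChevCore.Moves.mul C (ChevCore.Moves.inv C hmono (Acts.moves C hact)) hmv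
      rwa [inv_mul_cancel] at h)
  obtain ⟨d, hd⟩ : n * C.R.torus c * n⁻¹ ∈ C.R.torus.range :=
    C.diagonalSubgroup_eq ▸ C.conj_diagonal_mem hn (C.diagonalSubgroup_eq.symm ▸ ⟨c, rfl⟩)
  refine ⟨d, hd.symm, fun r => Units.ext ?_⟩
  obtain ⟨-, ε, hε⟩ := hact
  obtain ⟨h1, -, hx⟩ := hε r
  have hdm : C.R.torus d = m * C.R.torus c * m⁻¹ := by
    rw [hd, show n = m * C.R.torus e by rw [he]; group]
    calc m * C.R.torus e * C.R.torus c * (m * C.R.torus e)⁻¹ =
        m * (C.R.torus e * C.R.torus c * (C.R.torus e)⁻¹) * m⁻¹ := by group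
      _ = _ := by rw [← map_mul, mul_comm e c, map_mul, mul_inv_cancel_right]
  have key : C.xGL (w r) ((C.R.torusChar d (C.R.α (w r)) : F) * ((ε r : F) * 1)) =
      C.xGL (w r) ((ε r : F) * ((C.R.torusChar c (C.R.α r) : F) * 1)) := by
    rw [← C.acts_torus d (w r), ← hx, ← hx, hdm, ← C.acts_torus c r]
    group
  have := C.xGL_injective (w r).isLt key
  rcases h1 with h1 | h1 <;> simpa [h1] using this

/-- A monomial element acting as `-1` on the roots inverts the torus. -/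
theorem conj_torus_inv {n : GL D.Idx F} (hn : n ∈ D.monomialSubgroup F)
    {w : Equiv.Perm (Fin D.nroots)} (hmv : C.Moves n w) (hw : ∀ r, (w r : ℕ) = D.neg r)
    (c : Fin D.rank → Fˣ) : n * C.R.torus c * n⁻¹ = (C.R.torus c)⁻¹ := by
  obtain ⟨d, hd, hch⟩ := conj_torus_char C hn hmv c
  rw [hd, ← map_inv]
  refine torus_ext C fun r => ?_
  have h := hch ⟨D.neg r, C.R.neg_lt r r.isLt⟩
  rw [hw, C.R.neg_neg _ r.isLt, char_neg] at h
  rw [h, char_inv]

end chev

/-- The short roots of ³D₄ up to norms, and the long ones. -/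
theorem d4_shape : ∀ r : Fin chevD4.nroots,
    (chevD4.cartan 0 r.val = chevD4.cartan 2 r.val ∧ chevD4.cartan 2 r.val = chevD4.cartan 3 r.val ∧
      chevD4.cartan 1 r.val ∈ [1, -1, 2, -2]) ∨
    (chevD4.cartan 1 r.val ∈ [0, 1, -1] ∧
      ((chevD4.cartan 0 r.val - chevD4.cartan 2 r.val ∈ [2, -2] ∧ chevD4.cartan 2 r.val = chevD4.cartan 3 r.val) ∨
       (chevD4.cartan 2 r.val - chevD4.cartan 0 r.val ∈ [2, -2] ∧ chevD4.cartan 0 r.val = chevD4.cartan 3 r.val) ∨
       (chevD4.cartan 3 r.val - chevD4.cartan 0 r.val ∈ [2, -2] ∧ chevD4.cartan 0 r.val = chevD4.cartan 2 r.val))) := by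
  decide +kernel

variable {K : Type u} [Field K] [Fintype K] {p n : ℕ} [ExpChar K p]
  (hn : Fintype.card K = (p ^ n) * (p ^ n) * (p ^ n)) (hq : 2 ≤ p ^ n)

include hn in
/-- A regular pair. -/
theorem exists_regular (hq4 : 4 ≤ p ^ n) :
    ∃ (s : (↥(fieldD4 K p n 0))ˣ) (t : (↥(fieldD4 K p n 1))ˣ), ∀ r : Fin chevD4.nroots,
      (coreD4 K).R.torusChar (parD4 (uE s) (uE t) (p ^ n)) ((coreD4 K).R.α r) ≠ 1 := by
  obtain ⟨z, hz⟩ := IsCyclic.exists_generator (α := Kˣ)
  set q := p ^ n with hqdef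
  have hord : orderOf z = q * q * q - 1 := by
    rw [orderOf_eq_card_of_forall_mem_zpowers hz, Nat.card_units, Nat.card_eq_fintype_card, hn]
  have hq2 : q * 4 ≤ q * q := Nat.mul_le_mul_left _ hq4
  have hq3 : q * q * 4 ≤ q * q * q := Nat.mul_le_mul_left _ hq4
  have hne : ∀ k, 0 < k → k < q * q * q - 1 → z ^ k ≠ 1 := fun k h0 hk e => by
    have := Nat.le_of_dvd h0 (orderOf_dvd_of_pow_eq_one e)
    omega
  set S := z ^ (q - 1) with hSdef
  set T := nrm q z with hTdef
  have hT : T ^ q = T := nrm_fix hn z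
  let s : (↥(fieldD4 K p n 0))ˣ :=
    Units.mk0 ⟨(S : K), Subfield.mem_top _⟩ (fun e => S.ne_zero (congrArg Subtype.val e))
  let t : (↥(fieldD4 K p n 1))ˣ :=
    Units.mk0 ⟨(T : K), mem_fieldD4_one.2 (by rw [← Units.val_pow_eq_pow_val]; exact congrArg Units.val hT)⟩
      (fun e => T.ne_zero (congrArg Subtype.val e))
  refine ⟨s, t, fun r hr => ?_⟩
  rw [show uE s = S from Units.ext rfl, show uE t = T from Units.ext rfl,
    char_parD4 _ _ _ r.isLt] at hr
  have hN : ∀ x : Kˣ, nrm q x = x ^ (1 + q + q * q) := fun x => by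
    rw [nrm, pow_add, pow_add, pow_one, ← pow_mul]
  have hS1 : nrm q S = 1 := by
    rw [hN, hSdef, ← pow_mul, ← orderOf_dvd_iff_pow_eq_one, hord]
    refine dvd_of_eq ?_
    zify [show 1 ≤ q by omega, show 1 ≤ q * q * q by omega]
    ring
  have hT2 : T ^ 2 ≠ 1 := by
    rw [hTdef, hN, ← pow_mul]; exact hne _ (by omega) (by omega)
  have hS6 : S ^ 6 ≠ 1 := by
    rw [hSdef, ← pow_mul]; exact hne _ (by omega) (by omega)
  -- squares of the conjugates of `S` avoid the fixed field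
  have hX : ∀ X ∈ [S, S ^ q, (S ^ q) ^ q], ∀ k : ℤ, k ∈ [2, -2] → ∀ e : ℤ, X ^ k * T ^ e ≠ 1 := by
    intro X hX k hk e he
    have hfix : (X ^ k) ^ q = X ^ k := by
      rw [mul_eq_one_iff_eq_inv.1 he, inv_pow, ← zpow_natCast (T ^ e), ← zpow_mul, mul_comm, zpow_mul,
        zpow_natCast, hT]
    have h2 : (X ^ 2) ^ q = X ^ 2 := by
      simp only [List.mem_cons, List.not_mem_nil, or_false] at hk
      rcases hk with rfl | rfl
      · simpa using hfix
      · simpa [inv_pow] using hfix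
    have hback : (S ^ 2) ^ q = S ^ 2 := by
      simp only [List.mem_cons, List.not_mem_nil, or_false] at hX
      rcases hX with rfl | rfl | rfl
      · exact h2
      · rw [pow_right_comm S q 2] at h2
        exact ((frob3 hn (S ^ 2)).symm.trans (by rw [h2, h2])).symm
      · rw [pow_right_comm (S ^ q) q 2, pow_right_comm S q 2, frob3 hn] at h2
        calc (S ^ 2) ^ q = (((S ^ 2) ^ q) ^ q) ^ q := by rw [← h2]
          _ = _ := frob3 hn _
    have h := hS1
    rw [nrm] at h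
    apply hS6
    have h' := congrArg (· ^ 2) h
    simp only [mul_pow, one_pow] at h'
    rw [pow_right_comm (S ^ q) q 2, pow_right_comm S q 2, hback, hback] at h'
    rw [show (6 : ℕ) = 2 * 3 from rfl, pow_mul, pow_succ, pow_succ, pow_one]
    exact h'
  have hNz : ∀ c : ℤ, S ^ c * (S ^ q) ^ c * ((S ^ q) ^ q) ^ c = 1 := fun c => by
    rw [← mul_zpow, ← mul_zpow, ← nrm, hS1, one_zpow]
  rcases d4_shape r with ⟨e1, e2, e3⟩ | ⟨-, ⟨hd, he⟩ | ⟨hd, he⟩ | ⟨hd, he⟩⟩
  · rw [e1, e2, mul_right_comm _ (T ^ _), mul_right_comm _ (T ^ _), hNz, one_mul] at hr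
    simp only [List.mem_cons, List.not_mem_nil, or_false] at e3
    rcases e3 with e3 | e3 | e3 | e3 <;> rw [e3] at hr
    · rw [zpow_one] at hr; exact hT2 (by rw [hr, one_pow])
    · rw [_root_.zpow_neg_one, inv_eq_one] at hr; exact hT2 (by rw [hr, one_pow])
    · exact hT2 (by simpa using hr)
    · exact hT2 (by simpa using hr)
  all_goals
    generalize ha : chevD4.cartan 0 r.val = a at hr hd he
    generalize hb : chevD4.cartan 2 r.val = b at hr hd he
    generalize hc : chevD4.cartan 3 r.val = c at hr hd he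
  · subst he
    refine hX S (by simp) _ hd (chevD4.cartan 1 r.val) ?_
    rw [show a = (a - b) + b by ring, zpow_add] at hr
    refine Eq.trans ?_ hr
    refine Eq.trans (mul_one _).symm ?_
    rw [← hNz b]
    simp only [mul_comm, mul_left_comm, mul_assoc]
  · subst he
    refine hX (S ^ q) (by simp) _ hd (chevD4.cartan 1 r.val) ?_
    rw [show b = (b - a) + a by ring, zpow_add] at hr
    refine Eq.trans ?_ hr
    refine Eq.trans (mul_one _).symm ?_
    rw [← hNz a]
    simp only [mul_comm, mul_left_comm, mul_assoc]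
  · subst he
    refine hX ((S ^ q) ^ q) (by simp) _ hd (chevD4.cartan 1 r.val) ?_
    rw [show c = (c - a) + a by ring, zpow_add] at hr
    refine Eq.trans ?_ hr
    refine Eq.trans (mul_one _).symm ?_
    rw [← hNz a]
    simp only [mul_comm, mul_left_comm, mul_assoc]

include hn hq in
/-- A regular split element covers the group. -/
theorem cover_regular (hq4 : 4 ≤ p ^ n) :
    ∃ x : ↥(twistedD4 K (p ^ n)), x ^ (Fintype.card K - 1) = 1 ∧
      ∀ g : ↥(twistedD4 K (p ^ n)), ∃ u v, g = (u * x * u⁻¹) * (v * x * v⁻¹) := by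
  obtain ⟨hmono, w, hmv, hw⟩ := n0D4_spec hn hq
  obtain ⟨s, t, hreg⟩ := exists_regular hn hq4
  set x := tD4 hn hq s t with hx
  set n0 := n0D4 hn hq
  have hxt := tD4_mem hn hq s t
  have hinv : n0 * x * n0⁻¹ = x⁻¹ := Subtype.ext (by
    show (n0 : GL chevD4.Idx K) * (x : GL chevD4.Idx K) * (n0 : GL chevD4.Idx K)⁻¹ =
      (x : GL chevD4.Idx K)⁻¹
    rw [hx, coe_tD4]
    exact conj_torus_inv (coreD4 K) hmono hmv hw _)
  have hup : ∀ y ∈ (rankD4 hn hq).upper, x * y * x⁻¹ = y → y = 1 := by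
    intro y hy he
    have he' : (coreD4 K).R.torus (parD4 (uE s) (uE t) (p ^ n)) * (y : GL chevD4.Idx K) *
        ((coreD4 K).R.torus (parD4 (uE s) (uE t) (p ^ n)))⁻¹ = y := by
      rw [← coe_tD4 hn hq]
      exact congrArg Subtype.val he
    have h := fixed_Ucl (coreD4 K) (coreD4 K).R.isClosed_pos _
      ((coreD4 K).posUnipotent_eq ▸ hy) he'
    refine Subtype.ext (Subgroup.mem_bot.1 ((coreD4 K).Ucl_le (H := ⊥) (fun r hr _ => ?_) h))
    exact absurd hr.2 (hreg ⟨r, hr.1.1⟩)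
  have hlow : ∀ y ∈ low (rankD4 hn hq) n0, x * y * x⁻¹ = y → y = 1 := by
    intro y hy he
    have hi : n0⁻¹ * x * n0 = x⁻¹ := by
      have h : x = (n0 * x * n0⁻¹)⁻¹ := by rw [hinv, inv_inv]
      calc n0⁻¹ * x * n0 = n0⁻¹ * (n0 * x * n0⁻¹)⁻¹ * n0 := by rw [← h]
        _ = _ := by group
    have h1 := hup _ ((mem_low _ _).1 hy) (by
      calc x * (n0⁻¹ * y * n0) * x⁻¹ = (n0⁻¹ * x * n0)⁻¹ * (n0⁻¹ * y * n0) * (n0⁻¹ * x * n0) := by
            rw [hi, inv_inv]
        _ = n0⁻¹ * (x⁻¹ * (x * y * x⁻¹) * x) * n0 := by rw [he]; group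
        _ = _ := by group)
    calc y = n0 * (n0⁻¹ * y * n0) * n0⁻¹ := by group
      _ = 1 := by rw [h1]; group
  refine ⟨x, ?_, fun g => ?_⟩
  · refine Subtype.ext ?_
    rw [SubmonoidClass.coe_pow, hx, coe_tD4, ← map_pow, OneMemClass.coe_one, ← map_one (coreD4 K).R.torus]
    congr 1
    funext j
    exact Units.ext (by
      rw [Pi.pow_apply, Units.val_pow_eq_pow_val]
      exact FiniteField.pow_card_sub_one_eq_one _ (Units.ne_zero _))
  obtain ⟨a, v, hv, u, hu, e⟩ := gauss_one hn hq (by omega) g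
  obtain ⟨w1, -, e1⟩ := (coset_conj (fun y hy => tor_low _ hmono hmv hw hxt hy) hlow).1 v hv
  obtain ⟨w2, -, e2⟩ := (coset_conj (x := x⁻¹) (fun y hy => tor_upper _ (inv_mem hxt) hy)
    (fun y hy he => hup y hy (by
      calc x * y * x⁻¹ = x * (x⁻¹ * y * (x⁻¹)⁻¹) * x⁻¹ := by rw [he]
        _ = _ := by group))).2 u hu
  refine ⟨a⁻¹ * w1, a⁻¹ * (w2 * n0), ?_⟩
  calc g = a⁻¹ * ((v * x) * (x⁻¹ * u)) * a := by
        rw [show v * x * (x⁻¹ * u) = v * 1 * u by group, ← e]; group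
    _ = a⁻¹ * (w1 * x * w1⁻¹ * (w2 * x⁻¹ * w2⁻¹)) * a := by rw [e1, e2]
    _ = _ := by rw [← hinv]; group

end CfsgLib.TwistSquare
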