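import Cfsg.Agent.Lib.TwistSquare.D4Regular

/-!
# An element of order eight covers ³D₄(3)

The element is elliptic in the rank-one group of the short orbit and not in its derived group.
-/

set_option autoImplicit false
set_option linter.unusedSectionVars false

namespace CfsgLib.TwistSquare

open Cfsg.Lie CfsgLib.ChevStr CfsgLib.ChevStr.ChevCore CfsgLib.Twisted CfsgLib.TwistMult
open scoped MatrixGroups

universe u

section sl

variable {E : Type*} [Field E]

/-- The trace of the associated matrix of determinant `-1`. -/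
def tw (S : Matrix.SpecialLinearGroup (Fin 2) E) : E :=
  (S : Matrix (Fin 2) (Fin 2) E) 1 1 - (S : Matrix (Fin 2) (Fin 2) E) 0 0

/-- The standard matrix. -/
def S0 : Matrix.SpecialLinearGroup (Fin 2) E := ⟨!![0, 1; -1, 1], by simp [Matrix.det_fin_two]⟩

theorem coe_S0 : ((S0 : Matrix.SpecialLinearGroup (Fin 2) E) : Matrix (Fin 2) (Fin 2) E) =
    !![0, 1; -1, 1] := rfl

theorem coe_dia_neg : ((dia (-1 : Eˣ) : Matrix.SpecialLinearGroup (Fin 2) E) : Matrix (Fin 2) (Fin 2) E) =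
    !![-1, 0; 0, -1] := by
  rw [CfsgLib.Schur.slDiag_coe]; simp

theorem units_neg_sq {M : Type*} [CommRing M] : (-1 : Mˣ) * -1 = 1 := Units.ext (by simp)

theorem tw_mul_neg (S : Matrix.SpecialLinearGroup (Fin 2) E) : tw (S * dia (-1 : Eˣ)) = - tw S := by
  simp [tw, CfsgLib.Schur.slDiag_coe, Matrix.mul_apply, Fin.sum_univ_two]
  ring

theorem slDiag_inv (v : Eˣ) (S : Matrix.SpecialLinearGroup (Fin 2) E) :
    RegTorus.slDiag v⁻¹ (RegTorus.slDiag v S) = S := by
  ext a b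
  fin_cases a <;> fin_cases b <;> simp [RegTorus.slDiag]

variable [Fintype E] (hE : Fintype.card E = 27)
include hE

theorem three_eq : (3 : E) = 0 := by
  have h : ((27 : ℕ) : E) = 0 := hE ▸ FiniteField.cast_card_eq_zero E
  rw [show (27 : ℕ) = 3 ^ 3 by norm_num, Nat.cast_pow] at h
  exact_mod_cast eq_zero_of_pow_eq_zero h

theorem aniso (x : E) : x ^ 2 - x - 1 ≠ 0 := fun h => by
  refine (FiniteField.isSquare_neg_one_iff (F := E)).1 ⟨2 * x - 1, ?_⟩ (by rw [hE])
  linear_combination (-4 : E) * h - 2 * three_eq hE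

theorem exists_quad {A : E} (hA : A ≠ 0) (C : E) : ∃ y p : E, y ^ 2 = A * p ^ 2 + C := by
  open Polynomial in
  obtain ⟨y, p, h⟩ := FiniteField.exists_root_sum_quadratic (R := E) (f := X ^ 2)
    (g := Polynomial.C (-A) * X ^ 2 + Polynomial.C (-C)) (degree_X_pow 2)
    (by rw [degree_add_C (by rw [degree_C_mul_X_pow _ (neg_ne_zero.2 hA)]; norm_num),
      degree_C_mul_X_pow _ (neg_ne_zero.2 hA)]; rfl)
    (by rw [hE])
  refine ⟨y, p, ?_⟩
  simp only [Polynomial.eval_add, Polynomial.eval_mul, Polynomial.eval_C, Polynomial.eval_pow,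
    Polynomial.eval_X] at h
  linear_combination h

/-- All elliptic matrices of the standard trace are conjugate. -/
theorem exists_conj_S0 {S : Matrix.SpecialLinearGroup (Fin 2) E} (hS : tw S = 1) :
    ∃ P, S = P * S0 * RegTorus.slDiag (-1 : Eˣ) P⁻¹ := by
  have h3 := three_eq hE
  obtain ⟨a, b, c, d, hM, hdet⟩ : ∃ a b c d : E,
      (S : Matrix (Fin 2) (Fin 2) E) = !![a, b; c, d] ∧ a * d - b * c = 1 :=
    ⟨_, _, _, _, Matrix.eta_fin_two _, sl_det S⟩
  have hd : d = 1 + a := by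
    have : tw S = d - a := by simp [tw, hM]
    linear_combination hS.symm.trans this |>.symm
  subst hd
  have hc : c ≠ 0 := fun h => aniso hE (-a) (by linear_combination hdet + b * h)
  -- a vector on which the quadratic form takes the value one
  obtain ⟨z, y, hzy⟩ := exists_quad hE (A := -1) (neg_ne_zero.2 one_ne_zero) (4 * -c)
  set x := (z - (1 + 2 * a) * y) / (2 * -c) with hx
  have h2 : (2 : E) ≠ 0 := fun h => one_ne_zero (α := E) (by linear_combination h3 - h)
  have hx' : 2 * -c * x = z - (1 + 2 * a) * y := by rw [hx]; field_simp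
  have hQ : -c * x ^ 2 + (1 + 2 * a) * x * y - b * y ^ 2 = 1 := by
    refine mul_left_cancel₀ (mul_ne_zero (mul_ne_zero h2 h2) (neg_ne_zero.2 hc)) ?_
    linear_combination (2 * -c * x + z + (1 + 2 * a) * y) * hx' + hzy - 4 * y ^ 2 * hdet -
      2 * y ^ 2 * h3
  obtain ⟨P, hPc⟩ : ∃ P : Matrix.SpecialLinearGroup (Fin 2) E,
      (P : Matrix (Fin 2) (Fin 2) E) = !![x, -a * x + b * y; y, -c * x + (1 + a) * y] :=
    ⟨⟨_, by rw [Matrix.det_fin_two_of]; linear_combination hQ⟩, rfl⟩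
  refine ⟨P, ?_⟩
  rw [map_inv, eq_mul_inv_iff_mul_eq]
  ext i j
  fin_cases i <;> fin_cases j <;>
    simp [hPc, hM, coe_S0, RegTorus.slDiag, Matrix.mul_apply, Fin.sum_univ_two]
  · ring
  · linear_combination x * hdet
  · ring
  · linear_combination y * hdet

/-- Every `Y X` is a twisted product of two elliptic matrices. -/
theorem exists_factor (a b : E) :
    ∃ S T, (tw S = 1 ∨ tw S = -1) ∧ (tw T = 1 ∨ tw T = -1) ∧
      S * RegTorus.slDiag (-1 : Eˣ) T = slY a * slX b := by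
  have h3 := three_eq hE
  suffices h : ∃ τ σ p q r : E, (τ = 1 ∨ τ = -1) ∧ (σ = 1 ∨ σ = -1) ∧ q * r = -p ^ 2 + τ * p + 1 ∧
      a * b * p - q * a - r * b = -σ - τ by
    obtain ⟨τ, σ, p, q, r, hτ, hσ, hN, heq⟩ := h
    obtain ⟨S, hSc⟩ : ∃ S : Matrix.SpecialLinearGroup (Fin 2) E,
        (S : Matrix (Fin 2) (Fin 2) E) = !![-p, q; -r, τ - p] :=
      ⟨⟨_, by rw [Matrix.det_fin_two_of]; linear_combination hN⟩, rfl⟩
    refine ⟨S, RegTorus.slDiag (-1 : Eˣ) (S⁻¹ * (slY a * slX b)), ?_, ?_, ?_⟩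
    · rwa [show tw S = τ by simp [tw, hSc]]
    · rwa [show tw (RegTorus.slDiag (-1 : Eˣ) (S⁻¹ * (slY a * slX b))) = σ by
        simp [tw, hSc, RegTorus.slDiag, Matrix.mul_apply, Fin.sum_univ_two,
          Matrix.SpecialLinearGroup.coe_inv, Matrix.adjugate_fin_two]
        linear_combination (-1 : E) * heq]
    · have h := slDiag_inv (-1 : Eˣ) (S⁻¹ * (slY a * slX b))
      rw [show ((-1 : Eˣ))⁻¹ = -1 from inv_eq_of_mul_eq_one_right (units_neg_sq)] at h
      rw [h, mul_inv_cancel_left]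
  by_cases ha : a = 0
  · by_cases hb : b = 0
    · exact ⟨1, -1, 0, 1, 1, Or.inl rfl, Or.inr rfl, by ring, by subst ha hb; ring⟩
    · refine ⟨1, 1, 0, b / 2, 2 / b, Or.inl rfl, Or.inl rfl, ?_, ?_⟩
      · have h2 : (2 : E) ≠ 0 := fun h => one_ne_zero (α := E) (by linear_combination h3 - h)
        field_simp; ring
      · subst ha; field_simp; ring
  by_cases hb : b = 0
  · refine ⟨1, 1, 0, 2 / a, a / 2, Or.inl rfl, Or.inl rfl, ?_, ?_⟩
    · have h2 : (2 : E) ≠ 0 := fun h => one_ne_zero (α := E) (by linear_combination h3 - h)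
      field_simp; ring
    · subst hb; field_simp; ring
  by_cases hk : a * b = -1
  · refine ⟨1, -1, -1, -a⁻¹, a, Or.inl rfl, Or.inr rfl, ?_, ?_⟩
    · linear_combination (-1 : E) * inv_mul_cancel₀ ha
    · linear_combination (-2 : E) * hk + inv_mul_cancel₀ ha + h3
  obtain ⟨y, p, hy⟩ := exists_quad hE (A := a * b * (a * b + 1))
    (mul_ne_zero (mul_ne_zero ha hb) (fun h => hk (by linear_combination h))) (1 - a * b)
  set q := (a * b * p - 1 + y) / (2 * a) with hqdef
  have h2 : (2 : E) ≠ 0 := fun h => one_ne_zero (α := E) (by linear_combination h3 - h)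
  have hq' : 2 * a * q = a * b * p - 1 + y := by rw [hqdef]; field_simp
  have hquad : a * q ^ 2 - (a * b * p - 1) * q + b * (-p ^ 2 + p + 1) = 0 := by
    refine mul_left_cancel₀ (mul_ne_zero (mul_ne_zero h2 h2) ha) ?_
    linear_combination (2 * a * q - (a * b * p - 1) + y) * hq' + hy +
      (a * b - a * b * p ^ 2 + 2 * a * b * p) * h3
  have hq0 : q ≠ 0 := fun h => by
    rw [h] at hquad
    refine aniso hE p (mul_left_cancel₀ hb ?_)
    linear_combination (-1 : E) * hquad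
  refine ⟨1, 1, p, q, (-p ^ 2 + p + 1) / q, Or.inl rfl, Or.inl rfl, ?_, ?_⟩
  · field_simp
  · field_simp
    linear_combination (-1 : E) * hquad + q * h3

end sl

theorem d4_out_odd : ∀ r : Fin chevD4.nroots, chevD4.IsPosRoot r →
    ¬ SuppIn rootDataD4 (nodesD4 0) r → r.val ≠ 23 →
    Odd (chevD4.cartan 0 r.val + chevD4.cartan 2 r.val + chevD4.cartan 3 r.val) := by
  simp only [Int.odd_iff]
  decide +kernel

theorem d4_top : chevD4.cartan 1 23 = 1 ∧ (23 : ℕ) < chevD4.nroots ∧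
    CommPair chevD4 23 (chevD4.simple 0) ∧ CommPair chevD4 23 (chevD4.simple 2) ∧
    CommPair chevD4 23 (chevD4.simple 3) := by
  unfold CommPair
  decide +kernel

/-- The Weyl element taking the long fundamental root to the highest root. -/
def wTop : Equiv.Perm (Fin chevD4.nroots) :=
  reflDataD4.wordPerm [⟨1, by decide⟩] * reflDataD4.wordPerm [⟨0, by decide⟩, ⟨2, by decide⟩, ⟨3, by decide⟩]

theorem wTop_facts : (∀ h, (wTop ⟨chevD4.simple 1, h⟩ : ℕ) = 23) ∧
    (∀ h, (wTop ⟨chevD4.neg (chevD4.simple 1), h⟩ : ℕ) = chevD4.neg 23) ∧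
    ∀ r : Fin chevD4.nroots, (chevD4.cartan 0 (wTop r : ℕ) + chevD4.cartan 2 (wTop r : ℕ) +
      chevD4.cartan 3 (wTop r : ℕ) - chevD4.cartan 1 r.val) % 2 = 0 := by
  decide +kernel

variable {K : Type u} [Field K] [Fintype K] [ExpChar K 3]
  (hn : Fintype.card K = (3 ^ 1) * (3 ^ 1) * (3 ^ 1))

/-- The lower bound on the field. -/
theorem two_le_three : 2 ≤ 3 ^ 1 := by norm_num

/-- The long diagonal element. -/
noncomputable def aD : ↥(twistedD4 K (3 ^ 1)) := homD4 hn two_le_three 1 (dia (-1))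

/-- The short central element. -/
noncomputable def zD : ↥(twistedD4 K (3 ^ 1)) := homD4 hn two_le_three 0 (dia (-1))

/-- The elements outside the derived rank-one group. -/
noncomputable def eD (S : Matrix.SpecialLinearGroup (Fin 2) ↥(fieldD4 K 3 1 0)) :
    ↥(twistedD4 K (3 ^ 1)) :=
  homD4 hn two_le_three 0 S * aD hn

include hn in
theorem card_E0 [Fintype ↥(fieldD4 K 3 1 0)] : Fintype.card ↥(fieldD4 K 3 1 0) = 27 := by
  rw [← Nat.card_eq_fintype_card,
    show (27 : ℕ) = Nat.card K by rw [Nat.card_eq_fintype_card, hn]; norm_num]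
  exact Nat.card_congr (Equiv.subtypeUnivEquiv fun _ => Subfield.mem_top _)

theorem aD_eq : aD hn = tD4 hn two_le_three 1 (-1) := by simp [aD, tD4]

theorem zD_eq : zD hn = tD4 hn two_le_three (-1) 1 := by simp [zD, tD4]

omit [Fintype K] in
theorem uE_neg_one {i : Fin 2} : uE (-1 : (↥(fieldD4 K 3 1 i))ˣ) = -1 := Units.ext rfl

theorem four_pow {G : Type*} [Group G] (a : G) : a ^ 4 = a * a * (a * a) := by
  simp only [pow_succ, pow_zero, one_mul, mul_assoc]

theorem coe_aD : (aD hn : GL chevD4.Idx K) = (coreD4 K).R.torus (parD4 1 (-1 : Kˣ) (3 ^ 1)) := by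
  rw [aD_eq, coe_tD4, uE_one, uE_neg_one]

theorem coe_zD : (zD hn : GL chevD4.Idx K) = (coreD4 K).R.torus (parD4 (-1 : Kˣ) 1 (3 ^ 1)) := by
  rw [zD_eq, coe_tD4, uE_one, uE_neg_one]

theorem aD_sq : aD hn * aD hn = 1 := by
  rw [aD, ← map_mul, ← map_mul, units_neg_sq, map_one, map_one]

theorem aD_conj (S : Matrix.SpecialLinearGroup (Fin 2) ↥(fieldD4 K 3 1 0)) :
    aD hn * homD4 hn two_le_three 0 S * (aD hn)⁻¹ = homD4 hn two_le_three 0 (RegTorus.slDiag (-1) S) := by
  obtain ⟨χ, hχ, hact⟩ := tD4_conj0 hn two_le_three 1 (-1)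
  have : χ = -1 := uE_injective (by
    rw [hχ, uE_one, uE_neg_one,
      uE_neg_one]
    exact Units.ext (by simp))
  rw [aD_eq, hact, this]

theorem eD_conj (P S : Matrix.SpecialLinearGroup (Fin 2) ↥(fieldD4 K 3 1 0)) :
    homD4 hn two_le_three 0 P * eD hn S * (homD4 hn two_le_three 0 P)⁻¹ =
      eD hn (P * S * RegTorus.slDiag (-1) P⁻¹) := by
  rw [eD, eD, map_mul, map_mul, ← aD_conj, map_inv]
  group

theorem eD_mul (S T : Matrix.SpecialLinearGroup (Fin 2) ↥(fieldD4 K 3 1 0)) :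
    eD hn S * eD hn T = homD4 hn two_le_three 0 (S * RegTorus.slDiag (-1) T) := by
  rw [eD, eD, map_mul, ← aD_conj,
    show (aD hn)⁻¹ = aD hn from inv_eq_of_mul_eq_one_right (aD_sq hn)]
  group

theorem eD_neg (S : Matrix.SpecialLinearGroup (Fin 2) ↥(fieldD4 K 3 1 0)) :
    eD hn (S * dia (-1)) = eD hn S * zD hn := by
  rw [eD, eD, zD, map_mul, mul_assoc, mul_assoc]
  exact congrArg _ (commute_homD4 hn two_le_three 0 1 (-1) (-1)).eq

omit [Fintype K] in
theorem three_K : (3 : K) = 0 := by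
  have : CharP K 3 := by
    obtain ⟨h0 | h0⟩ := (inferInstance : ExpChar K 3)
    assumption
  exact_mod_cast CharP.cast_eq_zero K 3

theorem S0_four : eD hn S0 ^ 4 = zD hn := by
  rw [four_pow (eD hn S0), eD_mul, ← map_mul, zD]
  congr 1
  refine Subtype.ext ?_
  rw [coe_dia_neg]
  ext i j
  fin_cases i <;> fin_cases j <;>
    simp [coe_S0, RegTorus.slDiag, Matrix.mul_apply, Fin.sum_univ_two]
  all_goals first | linear_combination three_K (K := K) | linear_combination (2 : K) * three_K (K := K)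

theorem dia_neg_central {E : Type*} [Field E] (S : Matrix.SpecialLinearGroup (Fin 2) E) :
    S * dia (-1 : Eˣ) = dia (-1 : Eˣ) * S := by
  ext i j
  fin_cases i <;> fin_cases j <;>
    simp [CfsgLib.Schur.slDiag_coe, Matrix.mul_apply, Fin.sum_univ_two]

theorem eD_four {S : Matrix.SpecialLinearGroup (Fin 2) ↥(fieldD4 K 3 1 0)} (hS : tw S = 1 ∨ tw S = -1) :
    eD hn S ^ 4 = zD hn := by
  classical
  have key : ∀ S, tw S = 1 → eD hn S ^ 4 = zD hn := by
    intro S hS
    obtain ⟨P, hP⟩ := exists_conj_S0 (card_E0 hn) hS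
    rw [hP, ← eD_conj, conj_pow, S0_four, zD, ← map_mul, dia_neg_central P, map_mul,
      mul_inv_cancel_right]
  rcases hS with h | h
  · exact key S h
  · have h2 : dia (-1 : (↥(fieldD4 K 3 1 0))ˣ) * dia (-1) = 1 := by
      rw [← map_mul, units_neg_sq, map_one]
    have hz : zD hn * zD hn = 1 := by rw [zD, ← map_mul, h2, map_one]
    have hk := key (S * dia (-1)) (by rw [tw_mul_neg, h, neg_neg])
    have hc : Commute (eD hn (S * dia (-1))) (zD hn) := by
      rw [← hk]; exact Commute.self_pow _ 4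
    rw [show S = S * dia (-1) * dia (-1) by rw [mul_assoc, h2, mul_one], eD_neg, hc.mul_pow, hk,
      show zD hn ^ 4 = 1 by rw [four_pow (zD hn), hz, mul_one], mul_one]

theorem neg_ne_one_units : (-1 : Kˣ) ≠ 1 := fun h => by
  have h' : (-1 : K) = 1 := congrArg Units.val h
  exact one_ne_zero (α := K) (by linear_combination h' + three_K (K := K))

/-- No fixed points on the complement. -/
theorem eD_fixU (S : Matrix.SpecialLinearGroup (Fin 2) ↥(fieldD4 K 3 1 0)) (h4 : eD hn S ^ 4 = zD hn)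
    {y : ↥(twistedD4 K (3 ^ 1))} (hy : y ∈ outU (rankD4 hn two_le_three) 0)
    (he : eD hn S * y * (eD hn S)⁻¹ = y) : y = 1 := by
  have hc : Commute (zD hn) y := by
    rw [← h4]
    exact (show Commute (eD hn S) y from mul_inv_eq_iff_eq_mul.1 he).pow_left 4
  have hzy : (coreD4 K).R.torus (parD4 (-1 : Kˣ) 1 (3 ^ 1)) * (y : GL chevD4.Idx K) *
      ((coreD4 K).R.torus (parD4 (-1 : Kˣ) 1 (3 ^ 1)))⁻¹ = y := by
    rw [← coe_zD hn]
    exact congrArg Subtype.val (mul_inv_eq_iff_eq_mul.2 hc.eq : zD hn * y * (zD hn)⁻¹ = y)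
  have h := fixed_Ucl (coreD4 K) (outRoots_closed (coreD4 K) _) _ hy hzy
  have hle : (y : GL chevD4.Idx K) ∈ chevD4.rootSubgroup K 23 := by
    refine (coreD4 K).Ucl_le (fun r hr t => ?_) h
    obtain ⟨⟨hpos, hout⟩, hch⟩ := hr
    by_cases h23 : r = 23
    · exact (coreD4 K).mem_rootSubgroup.2 ⟨t, by rw [h23]⟩
    · exfalso
      have hodd := d4_out_odd ⟨r, hpos.1⟩ hpos hout h23
      rw [char_parD4 _ _ _ hpos.1, one_zpow, mul_one] at hch
      have hm : ((-1 : Kˣ) ^ 3 ^ 1) = -1 := by norm_num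
      rw [hm, hm, ← zpow_add, ← zpow_add, Odd.neg_one_zpow hodd] at hch
      exact neg_ne_one_units (K := K) hch
  obtain ⟨t, ht⟩ := (coreD4 K).mem_rootSubgroup.1 hle
  -- the rank-one group centralises the highest root group
  have hcom : ∀ S, Commute (homD4 hn two_le_three 0 S : GL chevD4.Idx K) ((coreD4 K).xGL 23 t) := by
    obtain ⟨-, -, c0, c2, c3⟩ := d4_top
    obtain ⟨s0, s1, s2, s3, m0, m1, m2, m3⟩ := d4_simples
    have key : ∀ w : List (ℕ × K), (∀ q ∈ w, ∃ c, CommPair chevD4 23 c ∧ q.1 ∈ [c, chevD4.neg c]) →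
        Commute ((coreD4 K).wordGL w) ((coreD4 K).xGL 23 t) := fun w hw =>
      Commute.list_prod_left _ _ fun x hx => by
        obtain ⟨q, hq, rfl⟩ := List.mem_map.1 hx
        obtain ⟨c, hc, hqc⟩ := hw q hq
        exact CommPair.commute (coreD4 K) hc 23 (by simp) q.1 hqc _ _
    intro S
    refine sl_decomp (fun S => Commute (homD4 hn two_le_three 0 S : GL chevD4.Idx K) ((coreD4 K).xGL 23 t))
      (fun u => ?_) (fun u => ?_) (fun g g' hg hg' => by rw [map_mul]; exact hg.mul_left hg') S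
    · show Commute (ohom (coreD4 K) (RegTorus.etaNegD4 K) 3 _ ((specD4 hn two_le_three).pair 0) (slX u)) _
      rw [ohom_slX]
      refine key _ fun q hq => ?_
      simp [oword, leadD4, restD4, nodeD4] at hq
      rcases hq with rfl | rfl | rfl
      exacts [⟨_, c0, by simp⟩, ⟨_, c2, by simp⟩, ⟨_, c3, by simp⟩]
    · show Commute (ohom (coreD4 K) (RegTorus.etaNegD4 K) 3 _ ((specD4 hn two_le_three).pair 0) (slY u)) _
      rw [ohom_slY]
      refine key _ fun q hq => ?_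
      simp [owordNeg, leadD4, restD4, nodeD4] at hq
      rcases hq with rfl | rfl | rfl
      exacts [⟨_, c0, by simp⟩, ⟨_, c2, by simp⟩, ⟨_, c3, by simp⟩]
  have hval := congrArg Subtype.val he
  simp only [eD, Subgroup.coe_mul, InvMemClass.coe_inv, mul_inv_rev, ht] at hval
  have hneg : (aD hn : GL chevD4.Idx K) * (coreD4 K).xGL 23 t * (aD hn : GL chevD4.Idx K)⁻¹ =
      (coreD4 K).xGL 23 (-t) := by
    rw [coe_aD, (coreD4 K).acts_torus _ ⟨23, d4_top.2.1⟩]
    congr 1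
    show (((coreD4 K).R.torusChar _ ((coreD4 K).R.α 23) : Kˣ) : K) * t = _
    rw [char_parD4 _ _ _ d4_top.2.1, d4_top.1]
    simp
  have htt : (coreD4 K).xGL 23 (-t) = (coreD4 K).xGL 23 t := by
    rw [← hneg]
    have hT := (hcom S).eq
    calc _ = (homD4 hn two_le_three 0 S : GL chevD4.Idx K)⁻¹ * ((homD4 hn two_le_three 0 S : GL chevD4.Idx K) *
          (aD hn : GL chevD4.Idx K) * (coreD4 K).xGL 23 t *
          ((aD hn : GL chevD4.Idx K)⁻¹ * (homD4 hn two_le_three 0 S : GL chevD4.Idx K)⁻¹)) *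
          (homD4 hn two_le_three 0 S : GL chevD4.Idx K) := by group
      _ = _ := by rw [hval, mul_assoc, ← hT, inv_mul_cancel_left]
  have h0 : t = 0 := by
    have h1 := (coreD4 K).xGL_injective d4_top.2.1 htt
    by_contra hne
    exact neg_ne_one_units (K := K) (Units.ext (mul_right_cancel₀ hne (by simpa using h1)))
  exact Subtype.ext (by rw [ht, h0, (coreD4 K).xGL_zero]; rfl)

theorem n0_aD : (n0D4 hn two_le_three)⁻¹ * aD hn * n0D4 hn two_le_three = aD hn := by
  obtain ⟨hmono, w, hmv, hw⟩ := n0D4_spec hn two_le_three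
  have hainv : (aD hn)⁻¹ = aD hn := inv_eq_of_mul_eq_one_right (aD_sq hn)
  have h : n0D4 hn two_le_three * aD hn * (n0D4 hn two_le_three)⁻¹ = (aD hn)⁻¹ := Subtype.ext (by
    show (n0D4 hn two_le_three : GL chevD4.Idx K) * (aD hn : GL chevD4.Idx K) *
      (n0D4 hn two_le_three : GL chevD4.Idx K)⁻¹ = (aD hn : GL chevD4.Idx K)⁻¹
    rw [coe_aD]
    exact conj_torus_inv (coreD4 K) hmono hmv hw _)
  rw [hainv] at h
  calc _ = (n0D4 hn two_le_three)⁻¹ * (n0D4 hn two_le_three * aD hn * (n0D4 hn two_le_three)⁻¹) *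
        n0D4 hn two_le_three := by rw [h]
    _ = _ := by group

/-- No fixed points on the opposite complement. -/
theorem eD_fixV (S : Matrix.SpecialLinearGroup (Fin 2) ↥(fieldD4 K 3 1 0)) (h4 : eD hn S ^ 4 = zD hn)
    {y : ↥(twistedD4 K (3 ^ 1))} (hy : y ∈ outV (rankD4 hn two_le_three) (n0D4 hn two_le_three) 0)
    (he : eD hn S * y * (eD hn S)⁻¹ = y) : y = 1 := by
  obtain ⟨hmono, w, hmv, hw⟩ := n0D4_spec hn two_le_three
  obtain ⟨h1, h2, h3⟩ := moves_inv hmono hmv hw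
  set n0 := n0D4 hn two_le_three
  obtain ⟨S', hS'⟩ := n0_range (rankD4 hn two_le_three) h1 h2 h3 0 S
  rw [inv_inv] at hS'
  replace hS' : n0⁻¹ * homD4 hn two_le_three 0 S * n0 = homD4 hn two_le_three 0 S' := hS'
  have he' : n0⁻¹ * eD hn S * n0 = eD hn S' := by
    calc _ = (n0⁻¹ * homD4 hn two_le_three 0 S * n0) * (n0⁻¹ * aD hn * n0) := by rw [eD]; group
      _ = _ := by rw [hS', n0_aD]; rfl
  have h4' : eD hn S' ^ 4 = zD hn := by
    have hz : n0 * zD hn * n0⁻¹ = (zD hn)⁻¹ := Subtype.ext (by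
      show (n0 : GL chevD4.Idx K) * (zD hn : GL chevD4.Idx K) * (n0 : GL chevD4.Idx K)⁻¹ =
        (zD hn : GL chevD4.Idx K)⁻¹
      rw [coe_zD]
      exact conj_torus_inv (coreD4 K) hmono hmv hw _)
    rw [← he']
    calc (n0⁻¹ * eD hn S * n0) ^ 4 = n0⁻¹ * eD hn S ^ 4 * n0 := by
          simp only [pow_succ, pow_zero, one_mul]; group
      _ = n0⁻¹ * ((zD hn)⁻¹)⁻¹ * n0 := by rw [h4, inv_inv]
      _ = n0⁻¹ * (n0 * zD hn * n0⁻¹)⁻¹ * n0 := by rw [hz]
      _ = (zD hn)⁻¹ := by group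
      _ = _ := inv_eq_of_mul_eq_one_right (by
          rw [zD, ← map_mul, ← map_mul, units_neg_sq, map_one, map_one])
  have hu := eD_fixU hn S' h4' ((mem_outV _ _).1 hy) (by
    rw [← he']
    calc _ = n0⁻¹ * (eD hn S * y * (eD hn S)⁻¹) * n0 := by group
      _ = _ := by rw [he])
  calc y = n0 * (n0⁻¹ * y * n0) * n0⁻¹ := by group
    _ = 1 := by rw [hu]; group

/-- An element negating the long diagonal element and centralising the short rank-one group. -/
theorem exists_fusion : ∃ m : ↥(twistedD4 K (3 ^ 1)), m * aD hn * m⁻¹ = aD hn * zD hn ∧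
    ∀ S, Commute m (homD4 hn two_le_three 0 S) := by
  obtain ⟨a1, b1⟩ := ohom_slW (coreD4 K) (RegTorus.etaNegD4 K) 3 _ ((specD4 hn two_le_three).pair 1)
  obtain ⟨a0, b0⟩ := ohom_slW (coreD4 K) (RegTorus.etaNegD4 K) 3 _ ((specD4 hn two_le_three).pair 0)
  set W := homD4 hn two_le_three 1 slW with hW
  set u := W * homD4 hn two_le_three 0 slW with hu
  have humono : (u : GL chevD4.Idx K) ∈ chevD4.monomialSubgroup K := mul_mem a1 a0
  have humv : (coreD4 K).Moves (u : GL chevD4.Idx K) wTop := ChevCore.Moves.mul (coreD4 K) b1 b0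
  obtain ⟨wfs, wfn, wfp⟩ := wTop_facts
  obtain ⟨s0, s1, s2, s3, m0, m1, m2, m3⟩ := d4_simples
  -- the conjugated long rank-one group centralises the short one
  have hcen : ∀ S T, Commute (u * homD4 hn two_le_three 1 T * u⁻¹) (homD4 hn two_le_three 0 S) := by
    obtain ⟨-, -, c0, c2, c3⟩ := d4_top
    have hroot : ∀ r, (r = 23 ∨ r = chevD4.neg 23) → ∀ x S,
        Commute ((coreD4 K).xGL r x) (homD4 hn two_le_three 0 S : GL chevD4.Idx K) := by
      intro r hr x
      have key : ∀ w : List (ℕ × K), (∀ q ∈ w, ∃ c, CommPair chevD4 23 c ∧ q.1 ∈ [c, chevD4.neg c]) →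
          Commute ((coreD4 K).xGL r x) ((coreD4 K).wordGL w) := fun w hw =>
        Commute.list_prod_right _ _ fun y hy => by
          obtain ⟨q, hq, rfl⟩ := List.mem_map.1 hy
          obtain ⟨c, hc, hqc⟩ := hw q hq
          exact (CommPair.commute (coreD4 K) hc r (by simpa using hr) q.1 hqc _ _).symm
      intro S
      refine sl_decomp (fun S => Commute ((coreD4 K).xGL r x) (homD4 hn two_le_three 0 S : GL chevD4.Idx K))
        (fun u => ?_) (fun u => ?_) (fun g g' hg hg' => by rw [map_mul]; exact hg.mul_right hg') S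
      · show Commute _ (ohom (coreD4 K) (RegTorus.etaNegD4 K) 3 _ ((specD4 hn two_le_three).pair 0) (slX u))
        rw [ohom_slX]
        refine key _ fun q hq => ?_
        simp [oword, leadD4, restD4, nodeD4] at hq
        rcases hq with rfl | rfl | rfl
        exacts [⟨_, c0, by simp⟩, ⟨_, c2, by simp⟩, ⟨_, c3, by simp⟩]
      · show Commute _ (ohom (coreD4 K) (RegTorus.etaNegD4 K) 3 _ ((specD4 hn two_le_three).pair 0) (slY u))
        rw [ohom_slY]
        refine key _ fun q hq => ?_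
        simp [owordNeg, leadD4, restD4, nodeD4] at hq
        rcases hq with rfl | rfl | rfl
        exacts [⟨_, c0, by simp⟩, ⟨_, c2, by simp⟩, ⟨_, c3, by simp⟩]
    intro S T
    refine sl_decomp (fun T => Commute (u * homD4 hn two_le_three 1 T * u⁻¹) (homD4 hn two_le_three 0 S))
      (fun x => ?_) (fun x => ?_) (fun g g' hg hg' => ?_) T
    · have hx : (homD4 hn two_le_three 1 (slX x) : GL chevD4.Idx K) = (coreD4 K).xGL d4p2 (x : K) := by
        show ohom (coreD4 K) (RegTorus.etaNegD4 K) 3 _ ((specD4 hn two_le_three).pair 1) (slX x) = _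
        rw [ohom_slX]
        simp [oword, leadD4, restD4, nodeD4, s1, ChevCore.wordGL]
      obtain ⟨x', hx'⟩ := humv.2 ⟨chevD4.simple 1, by decide⟩ (x : K)
      refine Subtype.ext ?_
      show (u : GL chevD4.Idx K) * _ * (u : GL chevD4.Idx K)⁻¹ * _ = _
      rw [hx, ← s1]
      rw [hx']
      exact (hroot _ (Or.inl (wfs _)) x' S).eq.trans (by
        show _ = _ * ((u : GL chevD4.Idx K) * (homD4 hn two_le_three 1 (slX x) : GL chevD4.Idx K) * (u : GL chevD4.Idx K)⁻¹)
        rw [hx, ← s1, hx'])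
    · have hx : (homD4 hn two_le_three 1 (slY x) : GL chevD4.Idx K) = (coreD4 K).xGL d4m2 (x : K) := by
        show ohom (coreD4 K) (RegTorus.etaNegD4 K) 3 _ ((specD4 hn two_le_three).pair 1) (slY x) = _
        rw [ohom_slY]
        simp [owordNeg, leadD4, restD4, nodeD4, s1, m1, ChevCore.wordGL]
      obtain ⟨x', hx'⟩ := humv.2 ⟨chevD4.neg (chevD4.simple 1), by decide⟩ (x : K)
      simp only [s1, m1] at hx'
      refine Subtype.ext ?_
      show (u : GL chevD4.Idx K) * _ * (u : GL chevD4.Idx K)⁻¹ * _ = _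
      rw [hx, hx']
      refine (hroot _ (Or.inr ?_) x' S).eq.trans (by
        show _ = _ * ((u : GL chevD4.Idx K) * (homD4 hn two_le_three 1 (slY x) : GL chevD4.Idx K) * (u : GL chevD4.Idx K)⁻¹)
        rw [hx, hx'])
      have := wfn (by decide)
      simpa only [s1, m1] using this
    · rw [map_mul, show u * (homD4 hn two_le_three 1 g * homD4 hn two_le_three 1 g') * u⁻¹ =
        (u * homD4 hn two_le_three 1 g * u⁻¹) * (u * homD4 hn two_le_three 1 g' * u⁻¹) by group]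
      exact hg.mul_left hg'
  refine ⟨u * W * u⁻¹, ?_, fun S => hcen S slW⟩
  -- the commutator with the long diagonal element
  obtain ⟨d, hd, hdc⟩ := conj_torus_char (coreD4 K) (inv_mem humono)
    (ChevCore.Moves.inv (coreD4 K) humono humv) (parD4 1 (-1 : Kˣ) (3 ^ 1))
  rw [← coe_aD hn, inv_inv] at hd
  have hdval : (coreD4 K).R.torusChar d ((coreD4 K).R.α (chevD4.simple 1)) = -1 := by
    have h := hdc ⟨23, d4_top.2.1⟩
    rw [show (wTop⁻¹ : Equiv.Perm _) ⟨23, d4_top.2.1⟩ = ⟨chevD4.simple 1, by decide⟩ from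
      Equiv.Perm.inv_eq_iff_eq.2 (Fin.ext (wfs _).symm)] at h
    rw [h]
    show (coreD4 K).R.torusChar _ ((coreD4 K).R.α 23) = _
    rw [char_parD4 _ _ _ d4_top.2.1, d4_top.1]
    simp
  have haW : (u⁻¹ * aD hn * u) * W * (u⁻¹ * aD hn * u)⁻¹ = homD4 hn two_le_three 1 (dia (-1) * slW) := by
    have hδ : RegTorus.slDiag (-1 : (↥(fieldD4 K 3 1 1))ˣ) slW = dia (-1) * slW := by
      ext i j
      fin_cases i <;> fin_cases j <;>
        simp [RegTorus.slDiag, coe_slW', CfsgLib.Schur.slDiag_coe, Matrix.mul_apply, Fin.sum_univ_two]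
    rw [← hδ]
    refine Subtype.ext ?_
    show (u : GL chevD4.Idx K)⁻¹ * (aD hn : GL chevD4.Idx K) * (u : GL chevD4.Idx K) * _ *
      ((u : GL chevD4.Idx K)⁻¹ * (aD hn : GL chevD4.Idx K) * (u : GL chevD4.Idx K))⁻¹ =
      ohom (coreD4 K) (RegTorus.etaNegD4 K) 3 _ ((specD4 hn two_le_three).pair 1) _
    rw [hd]
    refine torus_conj_ohom (coreD4 K) (RegTorus.etaNegD4 K) 3 _ ((specD4 hn two_le_three).pair 1) d (-1 : (↥(fieldD4 K 3 1 1))ˣ) ?_ _
    intro je hje
    simp [leadD4, restD4] at hje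
    subst hje
    rw [pow_zero, pow_one]
    exact hdval.trans (Units.ext rfl)
  have hz : u * homD4 hn two_le_three 1 (dia (-1)) * u⁻¹ = zD hn := by
    obtain ⟨e, he, hec⟩ := conj_torus_char (coreD4 K) humono humv (parD4 1 (-1 : Kˣ) (3 ^ 1))
    rw [← coe_aD hn] at he
    refine Subtype.ext ?_
    show (u : GL chevD4.Idx K) * (aD hn : GL chevD4.Idx K) * (u : GL chevD4.Idx K)⁻¹ = _
    rw [he, coe_zD]
    refine torus_ext _ fun r => ?_
    obtain ⟨r, rfl⟩ : ∃ r', r = wTop r' := ⟨wTop⁻¹ r, by rw [Equiv.Perm.inv_def, Equiv.apply_symm_apply]⟩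
    rw [hec r, char_parD4 _ _ _ r.isLt, char_parD4 _ _ _ (wTop r).isLt]
    have hm : ((-1 : Kˣ) ^ 3 ^ 1) = -1 := by norm_num
    simp only [one_zpow, one_pow, one_mul, mul_one, hm, ← zpow_add]
    obtain ⟨k, hk⟩ := Int.dvd_of_emod_eq_zero (wfp r)
    rw [show chevD4.cartan 0 (wTop r : ℕ) + chevD4.cartan 2 (wTop r : ℕ) + chevD4.cartan 3 (wTop r : ℕ) =
      chevD4.cartan 1 r.val + 2 * k by omega, zpow_add, zpow_mul]
    simp
  have h1 : aD hn * (u * W * u⁻¹) * (aD hn)⁻¹ = zD hn * (u * W * u⁻¹) := by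
    calc aD hn * (u * W * u⁻¹) * (aD hn)⁻¹ =
        u * ((u⁻¹ * aD hn * u) * W * (u⁻¹ * aD hn * u)⁻¹) * u⁻¹ := by group
      _ = u * homD4 hn two_le_three 1 (dia (-1)) * u⁻¹ * (u * W * u⁻¹) := by
          rw [haW, map_mul, hW]; group
      _ = _ := by rw [hz]
  have hainv : (aD hn)⁻¹ = aD hn := inv_eq_of_mul_eq_one_right (aD_sq hn)
  have hzz : (zD hn)⁻¹ = zD hn := inv_eq_of_mul_eq_one_right (by
    rw [zD, ← map_mul, ← map_mul, units_neg_sq, map_one, map_one])
  calc u * W * u⁻¹ * aD hn * (u * W * u⁻¹)⁻¹ =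
      (zD hn)⁻¹ * (aD hn * (u * W * u⁻¹) * (aD hn)⁻¹) * aD hn * (u * W * u⁻¹)⁻¹ := by rw [h1]; group
    _ = (zD hn)⁻¹ * aD hn := by group
    _ = _ := by
      rw [hzz, zD, aD]
      exact (commute_homD4 hn two_le_three 0 1 (-1) (-1)).eq

/-- All these elements are conjugate. -/
theorem eD_class {S : Matrix.SpecialLinearGroup (Fin 2) ↥(fieldD4 K 3 1 0)} (hS : tw S = 1 ∨ tw S = -1) :
    ∃ w, eD hn S = w * eD hn S0 * w⁻¹ := by
  classical
  have key : ∀ S, tw S = 1 → ∃ w, eD hn S = w * eD hn S0 * w⁻¹ := fun S hS => by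
    obtain ⟨P, hP⟩ := exists_conj_S0 (card_E0 hn) hS
    exact ⟨homD4 hn two_le_three 0 P, by rw [eD_conj, ← hP]⟩
  rcases hS with h | h
  · exact key S h
  · have h2 : dia (-1 : (↥(fieldD4 K 3 1 0))ˣ) * dia (-1) = 1 := by
      rw [← map_mul, units_neg_sq, map_one]
    obtain ⟨w, hw⟩ := key (S * dia (-1)) (by rw [tw_mul_neg, h, neg_neg])
    obtain ⟨m, hma, hmS⟩ := exists_fusion hn
    refine ⟨m * w, ?_⟩
    have hm : ∀ T, m * eD hn T * m⁻¹ = eD hn T * zD hn := fun T => by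
      calc m * eD hn T * m⁻¹ = (m * homD4 hn two_le_three 0 T * m⁻¹) * (m * aD hn * m⁻¹) := by
            rw [eD]; group
        _ = _ := by rw [(hmS T).eq, mul_inv_cancel_right, hma, eD, mul_assoc]
    calc eD hn S = eD hn (S * dia (-1) * dia (-1)) := by rw [mul_assoc, h2, mul_one]
      _ = m * eD hn (S * dia (-1)) * m⁻¹ := by rw [eD_neg, hm]
      _ = _ := by rw [hw]; group

include hn in
/-- An element of order eight covers ³D₄(3). -/
theorem cover_three : ∃ x : ↥(twistedD4 K (3 ^ 1)), x ^ 8 = 1 ∧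
    ∀ g : ↥(twistedD4 K (3 ^ 1)), ∃ u v, g = (u * x * u⁻¹) * (v * x * v⁻¹) := by
  classical
  obtain ⟨hmono, w, hmv, hw⟩ := n0D4_spec hn two_le_three
  set R := rankD4 hn two_le_three
  set n0 := n0D4 hn two_le_three
  refine ⟨eD hn S0, ?_, fun g => ?_⟩
  · rw [show (8 : ℕ) = 4 * 2 from rfl, pow_mul, S0_four, sq, zD, ← map_mul, ← map_mul,
      units_neg_sq, map_one, map_one]
  obtain ⟨a, v, hv, u, hu, e⟩ := gauss_one hn two_le_three (by norm_num) g
  obtain ⟨z, v0, hv0, hve⟩ := low_split R hmono hmv hw 0 hv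
  obtain ⟨t, c, hc, hue⟩ := upper_split R 0 hu
  set Y := homD4 hn two_le_three 0 (slY z) with hY
  set X := homD4 hn two_le_three 0 (slX t) with hX
  replace hve : v = Y * v0 := hve
  replace hue : u = X * c := hue
  set v' := Y * v0 * Y⁻¹ with hv'def
  have hv' : v' ∈ outV R n0 0 := hom_normalizes_V R hmono hmv hw 0 _ hv0
  obtain ⟨S, T, hS, hT, hST⟩ := exists_factor (card_E0 hn) z t
  have hSnorm : ∀ y ∈ outV R n0 0, eD hn S * y * (eD hn S)⁻¹ ∈ outV R n0 0 := fun y hy => by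
    have hay : aD hn * y * (aD hn)⁻¹ ∈ outV R n0 0 := by
      refine (mem_outV R n0).2 ?_
      have h : aD hn * (n0⁻¹ * y * n0) * (aD hn)⁻¹ ∈ outU R 0 :=
        tor_outU R 0 (homD4_dia_tor hn two_le_three 1 (-1)) ((mem_outV R n0).1 hy)
      rw [← n0_aD hn] at h
      simpa [n0, mul_assoc] using h
    have h2 : homD4 hn two_le_three 0 S * (aD hn * y * (aD hn)⁻¹) * (homD4 hn two_le_three 0 S)⁻¹ ∈
        outV R n0 0 := hom_normalizes_V R hmono hmv hw 0 S hay
    rw [eD]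
    simpa [mul_assoc] using h2
  have hTnorm : ∀ y ∈ outU R 0, eD hn T * y * (eD hn T)⁻¹ ∈ outU R 0 := fun y hy => by
    have h2 : homD4 hn two_le_three 0 T * (aD hn * y * (aD hn)⁻¹) * (homD4 hn two_le_three 0 T)⁻¹ ∈
        outU R 0 := hom_normalizes R 0 T _ (tor_outU R 0 (homD4_dia_tor hn two_le_three 1 (-1)) hy)
    rw [eD]
    simpa [mul_assoc] using h2
  obtain ⟨w1, -, e1⟩ := (coset_conj hSnorm (fun y hy he => eD_fixV hn S (eD_four hn hS) hy he)).1 v' hv'
  obtain ⟨w2, -, e2⟩ := (coset_conj hTnorm (fun y hy he => eD_fixU hn T (eD_four hn hT) hy he)).2 c hc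
  obtain ⟨k1, hk1⟩ := eD_class hn hS
  obtain ⟨k2, hk2⟩ := eD_class hn hT
  refine ⟨a⁻¹ * w1 * k1, a⁻¹ * w2 * k2, ?_⟩
  have hl : eD hn S * eD hn T = Y * X := by rw [eD_mul, hST, map_mul]
  calc g = a⁻¹ * (a * g * a⁻¹) * a := by group
    _ = a⁻¹ * (v' * (Y * X) * c) * a := by rw [e, hve, hue, hv'def]; group
    _ = a⁻¹ * ((v' * eD hn S) * (eD hn T * c)) * a := by rw [← hl]; group
    _ = _ := by rw [e1, e2, hk1, hk2]; group

end CfsgLib.TwistSquare
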