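import Cfsg.Agent.Lib.TwistSquare.Gauss
import Cfsg.Agent.Lib.TwistMult.D4Rank

/-!
# Tori and Gauss decompositions in ³D₄(q)

Every non-trivial element of ³D₄(q), `q ≥ 3`, is conjugate to a product of a lower and an upper
unipotent element.
-/

set_option autoImplicit false
set_option linter.unusedSectionVars false

namespace CfsgLib.TwistSquare

open Cfsg.Lie CfsgLib.ChevStr CfsgLib.ChevStr.ChevCore CfsgLib.Twisted CfsgLib.TwistMult
open scoped MatrixGroups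

universe u

section par

variable {K : Type u} [Field K]

/-- The torus parameter of a pair. -/
def parD4 (s t : Kˣ) (q : ℕ) : Fin chevD4.rank → Kˣ :=
  Pi.mulSingle (nodeD4 0) s * (Pi.mulSingle (nodeD4 2) (s ^ q) * Pi.mulSingle (nodeD4 3) ((s ^ q) ^ q)) *
    Pi.mulSingle (nodeD4 1) t

theorem parD4_vals (s t : Kˣ) (q : ℕ) : parD4 s t q (nodeD4 0) = s ∧ parD4 s t q (nodeD4 1) = t ∧
    parD4 s t q (nodeD4 2) = s ^ q ∧ parD4 s t q (nodeD4 3) = (s ^ q) ^ q := by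
  refine ⟨?_, ?_, ?_, ?_⟩ <;> simp [parD4, Pi.mulSingle_apply, nodeD4, Fin.ext_iff]

/-- The value of a root at a parameter. -/
theorem char_parD4 (s t : Kˣ) (q : ℕ) {r : ℕ} (hr : r < chevD4.nroots) :
    (coreD4 K).R.torusChar (parD4 s t q) ((coreD4 K).R.α r) =
      s ^ chevD4.cartan 0 r * t ^ chevD4.cartan 1 r * (s ^ q) ^ chevD4.cartan 2 r *
        ((s ^ q) ^ q) ^ chevD4.cartan 3 r := by
  obtain ⟨h0, h1, h2, h3⟩ := parD4_vals s t q
  rw [(coreD4 K).R.torusChar_root _ hr, prod_nodeD4, h0, h1, h2, h3]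
  rfl

/-- The norm to the fixed field. -/
def nrm (q : ℕ) (x : Kˣ) : Kˣ := x * x ^ q * (x ^ q) ^ q

/-- The units of an orbit field in the units of the field. -/
abbrev uE {p n : ℕ} [ExpChar K p] {i : Fin 2} (x : (↥(fieldD4 K p n i))ˣ) : Kˣ :=
  Units.map (fieldD4 K p n i).subtype.toMonoidHom x

theorem uE_injective {p n : ℕ} [ExpChar K p] {i : Fin 2} {x y : (↥(fieldD4 K p n i))ˣ}
    (h : uE x = uE y) : x = y := Units.ext (Subtype.ext (congrArg Units.val h :))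

theorem uE_one {p n : ℕ} [ExpChar K p] {i : Fin 2} : uE (1 : (↥(fieldD4 K p n i))ˣ) = 1 :=
  Units.ext rfl

end par

variable {K : Type u} [Field K] [Fintype K] {p n : ℕ} [ExpChar K p]
  (hn : Fintype.card K = (p ^ n) * (p ^ n) * (p ^ n)) (hq : 2 ≤ p ^ n)

/-- The rank-one data. -/
noncomputable abbrev rankD4 : RankOneData (gensD4 K hn hq) :=
  (specD4 hn hq).data (coreD4 K) (RegTorus.etaNegD4 K) p

/-- The rank-one homomorphisms. -/
noncomputable def homD4 (i : Fin 2) :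
    Matrix.SpecialLinearGroup (Fin 2) ↥(fieldD4 K p n i) →* ↥(twistedD4 K (p ^ n)) :=
  (rankD4 hn hq).hom i

theorem homD4_eq (i : Fin 2) : homD4 hn hq i = (rankD4 hn hq).hom i := rfl

theorem commute_homD4 (i j : Fin 2) (u : (↥(fieldD4 K p n i))ˣ) (v : (↥(fieldD4 K p n j))ˣ) :
    Commute (homD4 hn hq i (dia u)) (homD4 hn hq j (dia v)) :=
  (rankD4 hn hq).commute_dia i j u v

theorem homD4_dia_tor (i : Fin 2) (u : (↥(fieldD4 K p n i))ˣ) :
    homD4 hn hq i (dia u) ∈ tor (rankD4 hn hq) := by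
  exact (rankD4 hn hq).dia_tor i u

/-- The torus element of a pair. -/
noncomputable def tD4 (s : (↥(fieldD4 K p n 0))ˣ) (t : (↥(fieldD4 K p n 1))ˣ) :
    ↥(twistedD4 K (p ^ n)) :=
  homD4 hn hq 0 (dia s) * homD4 hn hq 1 (dia t)

theorem coe_tD4 (s : (↥(fieldD4 K p n 0))ˣ) (t : (↥(fieldD4 K p n 1))ˣ) :
    (tD4 hn hq s t : GL chevD4.Idx K) =
      (coreD4 K).R.torus (parD4 (uE s) (uE t) (p ^ n)) := by
  show ohom (coreD4 K) (RegTorus.etaNegD4 K) p _ ((specD4 hn hq).pair 0) (dia s) *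
    ohom (coreD4 K) (RegTorus.etaNegD4 K) p _ ((specD4 hn hq).pair 1) (dia t) = _
  rw [ohom_dia, ohom_dia]
  simp only [leadD4, restD4, List.map_cons, List.map_nil, List.prod_cons, List.prod_nil, mul_one,
    RootData.torusSingle, pow_zero, pow_one, pow_add, pow_mul, parD4, map_mul]

theorem tD4_mem (s : (↥(fieldD4 K p n 0))ˣ) (t : (↥(fieldD4 K p n 1))ˣ) :
    tD4 hn hq s t ∈ tor (rankD4 hn hq) :=
  mul_mem (homD4_dia_tor hn hq 0 s) (homD4_dia_tor hn hq 1 t)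

theorem tD4_one : tD4 hn hq 1 1 = 1 := by
  simp [tD4]

theorem dia0_tD4 (r s : (↥(fieldD4 K p n 0))ˣ) (t : (↥(fieldD4 K p n 1))ˣ) :
    homD4 hn hq 0 (dia r) * tD4 hn hq s t = tD4 hn hq (r * s) t := by
  rw [tD4, tD4, map_mul dia, map_mul, mul_assoc]

theorem dia1_tD4 (s : (↥(fieldD4 K p n 0))ˣ) (r t : (↥(fieldD4 K p n 1))ˣ) :
    homD4 hn hq 1 (dia r) * tD4 hn hq s t = tD4 hn hq s (r * t) := by
  rw [tD4, tD4, map_mul dia, map_mul, ← mul_assoc, ← mul_assoc,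
    (commute_homD4 hn hq 1 0 r s).eq]

theorem exists_tD4 {h : ↥(twistedD4 K (p ^ n))} (hh : h ∈ tor (rankD4 hn hq)) :
    ∃ s t, h = tD4 hn hq s t := by
  refine Subgroup.closure_induction (p := fun h _ => ∃ s t, h = tD4 hn hq s t) ?_ ⟨1, 1, (tD4_one hn hq).symm⟩
    ?_ ?_ ((rankD4 hn hq).tor_gen hh)
  · intro x hx
    obtain ⟨i, u, rfl⟩ := Set.mem_iUnion.1 hx
    fin_cases i
    · exact ⟨u, 1, by simp [tD4]; rfl⟩
    · exact ⟨1, u, by simp [tD4]; rfl⟩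
  · rintro _ _ - - ⟨s, t, rfl⟩ ⟨s', t', rfl⟩
    refine ⟨s * s', t * t', ?_⟩
    simp only [tD4, map_mul]
    have := (commute_homD4 hn hq 1 0 t s').eq
    simp only [mul_assoc]
    rw [← mul_assoc (homD4 hn hq 1 (dia t)), this, mul_assoc]
  · rintro _ - ⟨s, t, rfl⟩
    refine ⟨s⁻¹, t⁻¹, ?_⟩
    simp only [tD4, map_inv, mul_inv_rev]
    exact ((commute_homD4 hn hq 0 1 s t).inv_inv).eq.symm

include hn in
theorem frob3 (x : Kˣ) : ((x ^ p ^ n) ^ p ^ n) ^ p ^ n = x := by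
  refine Units.ext ?_
  simp only [Units.val_pow_eq_pow_val, ← pow_mul, ← hn]
  exact FiniteField.pow_card _

theorem uT_fix (t : (↥(fieldD4 K p n 1))ˣ) : uE t ^ p ^ n = uE t :=
  Units.ext (by rw [Units.val_pow_eq_pow_val]; exact mem_fieldD4_one.1 t.val.2)

include hn in
theorem nrm_fix (x : Kˣ) : nrm (p ^ n) x ^ p ^ n = nrm (p ^ n) x := by
  rw [nrm, mul_pow, mul_pow, frob3 hn]
  exact (mul_comm _ _).trans (mul_assoc _ _ _).symm

/-- The action on the short rank-one group. -/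
theorem tD4_conj0 (s : (↥(fieldD4 K p n 0))ˣ) (t : (↥(fieldD4 K p n 1))ˣ) :
    ∃ χ : (↥(fieldD4 K p n 0))ˣ, uE χ = uE s ^ 2 * (uE t)⁻¹ ∧
      ∀ g, tD4 hn hq s t * homD4 hn hq 0 g * (tD4 hn hq s t)⁻¹ =
        homD4 hn hq 0 (RegTorus.slDiag χ g) := by
  set S := uE s
  set T := uE t
  let χ : (↥(fieldD4 K p n 0))ˣ :=
    Units.mk0 ⟨((S ^ 2 * T⁻¹ : Kˣ) : K), Subfield.mem_top _⟩
      (fun e => (S ^ 2 * T⁻¹).ne_zero (congrArg Subtype.val e))
  have hχ : uE χ = S ^ 2 * T⁻¹ := Units.ext rfl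
  refine ⟨χ, hχ, fun g => Subtype.ext ?_⟩
  show (tD4 hn hq s t : GL chevD4.Idx K) * _ * (tD4 hn hq s t : GL chevD4.Idx K)⁻¹ =
    ohom (coreD4 K) (RegTorus.etaNegD4 K) p _ ((specD4 hn hq).pair 0) _
  rw [coe_tD4]
  refine torus_conj_ohom (coreD4 K) (RegTorus.etaNegD4 K) p _ ((specD4 hn hq).pair 0) _ χ ?_ g
  intro je hje
  obtain ⟨s0, s1, s2, s3, -⟩ := d4_simples
  have hc : (List.range 4).map (fun j => chevD4.cartan j d4p1) = [2, -1, 0, 0] ∧
      (List.range 4).map (fun j => chevD4.cartan j d4p3) = [0, -1, 2, 0] ∧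
      (List.range 4).map (fun j => chevD4.cartan j d4p4) = [0, -1, 0, 2] := by decide +kernel
  simp [List.range_succ] at hc
  obtain ⟨⟨a0, a1, a2, a3⟩, ⟨b0, b1, b2, b3⟩, ⟨c0, c1, c2, c3⟩⟩ := hc
  have hT := uT_fix t
  show _ = uE χ ^ p ^ je.2
  rw [hχ]
  simp [leadD4, restD4] at hje
  rcases hje with rfl | rfl | rfl
  · rw [char_parD4 _ _ _ (rootDataD4.simple_lt _)]
    simp [nodeD4, s0, a0, a1, a2, a3, zpow_two, sq]
    rfl
  · rw [char_parD4 _ _ _ (rootDataD4.simple_lt _)]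
    simp [nodeD4, s2, b0, b1, b2, b3, mul_pow, inv_pow]
    rw [hT, pow_right_comm, mul_comm]
  · rw [char_parD4 _ _ _ (rootDataD4.simple_lt _)]
    simp [nodeD4, s3, c0, c1, c2, c3, mul_pow, inv_pow, pow_add, pow_mul]
    rw [hT, hT, pow_right_comm, pow_right_comm S (p ^ n) 2, mul_comm]

/-- The action on the long rank-one group. -/
theorem tD4_conj1 (s : (↥(fieldD4 K p n 0))ˣ) (t : (↥(fieldD4 K p n 1))ˣ) :
    ∃ χ : (↥(fieldD4 K p n 1))ˣ, uE χ = uE t ^ 2 * (nrm (p ^ n) (uE s))⁻¹ ∧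
      ∀ g, tD4 hn hq s t * homD4 hn hq 1 g * (tD4 hn hq s t)⁻¹ =
        homD4 hn hq 1 (RegTorus.slDiag χ g) := by
  set S := uE s
  set T := uE t
  have hmem : ((T ^ 2 * (nrm (p ^ n) S)⁻¹ : Kˣ) : K) ∈ fieldD4 K p n 1 := by
    rw [mem_fieldD4_one, ← Units.val_pow_eq_pow_val, mul_pow, inv_pow, nrm_fix hn,
      pow_right_comm, uT_fix]
  let χ : (↥(fieldD4 K p n 1))ˣ := Units.mk0 ⟨((T ^ 2 * (nrm (p ^ n) S)⁻¹ : Kˣ) : K), hmem⟩
      (fun e => (T ^ 2 * (nrm (p ^ n) S)⁻¹).ne_zero (congrArg Subtype.val e))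
  have hχ : uE χ = T ^ 2 * (nrm (p ^ n) S)⁻¹ := Units.ext rfl
  refine ⟨χ, hχ, fun g => Subtype.ext ?_⟩
  show (tD4 hn hq s t : GL chevD4.Idx K) * _ * (tD4 hn hq s t : GL chevD4.Idx K)⁻¹ =
    ohom (coreD4 K) (RegTorus.etaNegD4 K) p _ ((specD4 hn hq).pair 1) _
  rw [coe_tD4]
  refine torus_conj_ohom (coreD4 K) (RegTorus.etaNegD4 K) p _ ((specD4 hn hq).pair 1) _ χ ?_ g
  intro je hje
  obtain ⟨s0, s1, -⟩ := d4_simples
  have hc : (List.range 4).map (fun j => chevD4.cartan j d4p2) = [-1, 2, -1, -1] := by decide +kernel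
  simp [List.range_succ] at hc
  obtain ⟨a0, a1, a2, a3⟩ := hc
  show _ = uE χ ^ p ^ je.2
  rw [hχ]
  simp [leadD4, restD4] at hje
  subst hje
  rw [char_parD4 _ _ _ (rootDataD4.simple_lt _)]
  simp [nodeD4, s1, a0, a1, a2, a3, nrm, zpow_two, sq]
  simp only [mul_comm, mul_left_comm, mul_assoc]
  rfl

/-- The rank-one groups generate. -/
theorem iSup_range_D4 : (⨆ i, (homD4 hn hq i).range) = ⊤ := by
  rw [eq_top_iff]
  intro x _
  have hle : twistedD4 K (p ^ n) ≤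
      (⨆ i, (homD4 hn hq i).range).map (twistedD4 K (p ^ n)).subtype := by
    refine (Subgroup.closure_le _).2 ?_
    rintro g ⟨w, hw, hg⟩
    rw [show g = (coreD4 K).wordGL w from Units.ext (hg.trans ((coreD4 K).coe_wordGL w).symm)]
    obtain ⟨s0, s1, s2, s3, m0, m1, m2, m3⟩ := d4_simples
    have key : ∀ i S, (coreD4 K).wordGL w = ohom (coreD4 K) (RegTorus.etaNegD4 K) p _
        ((specD4 hn hq).pair i) S → (coreD4 K).wordGL w ∈
        (⨆ i, (homD4 hn hq i).range).map (twistedD4 K (p ^ n)).subtype := fun i S e =>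
      ⟨homD4 hn hq i S, Subgroup.mem_iSup_of_mem i ⟨S, rfl⟩, e.symm⟩
    rcases hw with ⟨t, ht, r, hr, rfl⟩ | ⟨t, rs, hrs, rfl⟩
    · simp only [List.mem_cons, List.not_mem_nil, or_false] at hr
      rcases hr with rfl | rfl
      · refine key 1 (slX ⟨t, mem_fieldD4_one.2 ht⟩) ?_
        rw [ohom_slX]
        simp [oword, leadD4, restD4, nodeD4, s1]
      · refine key 1 (slY ⟨t, mem_fieldD4_one.2 ht⟩) ?_
        rw [ohom_slY]
        simp [owordNeg, leadD4, restD4, nodeD4, s1, m1]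
    · simp only [List.mem_cons, List.not_mem_nil, or_false] at hrs
      rcases hrs with rfl | rfl
      · refine key 0 (slX ⟨t, Subfield.mem_top _⟩) ?_
        rw [ohom_slX]
        simp [oword, leadD4, restD4, nodeD4, s0, s2, s3, pow_add, sq, ← pow_mul]
      · refine key 0 (slY ⟨t, Subfield.mem_top _⟩) ?_
        rw [ohom_slY]
        simp [owordNeg, leadD4, restD4, nodeD4, s0, s2, s3, m0, m2, m3, pow_add, sq, ← pow_mul]
  obtain ⟨y, hy, e⟩ := hle x.2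
  rwa [← show y = x from Subtype.ext e]

theorem w0_word : ∀ r : Fin chevD4.nroots,
    (((reflDataD4.wordPerm [⟨0, by decide⟩, ⟨2, by decide⟩, ⟨3, by decide⟩] *
      reflDataD4.wordPerm [⟨1, by decide⟩]) ^ 3) r : ℕ) = chevD4.neg r := by decide +kernel

/-- An element inverting the torus. -/
noncomputable def n0D4 : ↥(twistedD4 K (p ^ n)) :=
  (homD4 hn hq 0 slW * homD4 hn hq 1 slW) ^ 3

theorem n0D4_spec : (n0D4 hn hq : GL chevD4.Idx K) ∈ chevD4.monomialSubgroup K ∧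
    ∃ w, (coreD4 K).Moves (n0D4 hn hq : GL chevD4.Idx K) w ∧ ∀ r, (w r : ℕ) = chevD4.neg r := by
  obtain ⟨a, b⟩ := ohom_slW (coreD4 K) (RegTorus.etaNegD4 K) p _ ((specD4 hn hq).pair 0)
  obtain ⟨c, d⟩ := ohom_slW (coreD4 K) (RegTorus.etaNegD4 K) p _ ((specD4 hn hq).pair 1)
  have hm := ChevCore.Moves.mul (coreD4 K) b d
  refine ⟨?_, _, ?_, w0_word⟩
  · rw [n0D4, SubmonoidClass.coe_pow, Subgroup.coe_mul]
    exact pow_mem (mul_mem a c) 3
  · have h3 := ChevCore.Moves.mul (coreD4 K) (ChevCore.Moves.mul (coreD4 K) hm hm) hm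
    rw [n0D4, SubmonoidClass.coe_pow, Subgroup.coe_mul, pow_succ, pow_succ, pow_one, pow_succ,
      pow_succ, pow_one]
    exact h3

include hn in
theorem exists_gen (hq3 : 3 ≤ p ^ n) : ∀ c : Kˣ, ∃ s : (↥(fieldD4 K p n 0))ˣ,
    uE s ^ 2 ≠ 1 ∧ nrm (p ^ n) (uE s) ≠ c := by
  obtain ⟨z, hz⟩ := IsCyclic.exists_generator (α := Kˣ)
  have hord : orderOf z = (p ^ n) * (p ^ n) * (p ^ n) - 1 := by
    rw [orderOf_eq_card_of_forall_mem_zpowers hz, Nat.card_units, Nat.card_eq_fintype_card, hn]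
  have hbig : 9 * (p ^ n) ≤ (p ^ n) * (p ^ n) * (p ^ n) :=
    Nat.mul_le_mul_right _ (Nat.mul_le_mul hq3 hq3)
  have hne : ∀ k, 0 < k → k < (p ^ n) * (p ^ n) * (p ^ n) - 1 → z ^ k ≠ 1 := fun k h0 hk e => by
    have := Nat.le_of_dvd h0 (orderOf_dvd_of_pow_eq_one e)
    omega
  have hN : ∀ x : Kˣ, nrm (p ^ n) x = x ^ (1 + p ^ n + (p ^ n) * (p ^ n)) := fun x => by
    rw [nrm, pow_add, pow_add, pow_one, ← pow_mul]
  intro c
  let lift : Kˣ → (↥(fieldD4 K p n 0))ˣ := fun x => Units.mk0 ⟨(x : K), Subfield.mem_top _⟩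
    (fun e => x.ne_zero (congrArg Subtype.val e))
  have hl : ∀ x, uE (lift x) = x := fun x => Units.ext rfl
  by_cases h1 : nrm (p ^ n) z = c
  · refine ⟨lift (z ^ 2), by rw [hl, ← pow_mul]; exact hne _ (by norm_num) (by omega), ?_⟩
    rw [hl, hN, ← h1, hN, ← pow_mul, two_mul, pow_add, Ne, mul_eq_left]
    refine hne _ (by omega) ?_
    have : (p ^ n) * (p ^ n) * 3 ≤ (p ^ n) * (p ^ n) * (p ^ n) := Nat.mul_le_mul_left _ hq3
    have : (p ^ n) * 3 ≤ (p ^ n) * (p ^ n) := Nat.mul_le_mul_left _ hq3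
    omega
  · exact ⟨lift z, by rw [hl]; exact hne _ (by norm_num) (by omega), by rwa [hl]⟩

/-- Every non-trivial element has a conjugate in `U⁻ U`. -/
theorem gauss_one (hq3 : 3 ≤ p ^ n) (x : ↥(twistedD4 K (p ^ n))) :
    HasGauss (rankD4 hn hq) (n0D4 hn hq) x 1 := by
  obtain ⟨hmono, w, hmv, hw⟩ := n0D4_spec hn hq
  set P := fun s t => HasGauss (rankD4 hn hq) (n0D4 hn hq) x (tD4 hn hq s t)
  have move0 : ∀ {s t} s', P s t → uE s ^ 2 ≠ uE t → P s' t := by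
    intro s t s' h hne
    obtain ⟨χ, hχ, hact⟩ := tD4_conj0 hn hq s t
    have h1 : HasGauss (rankD4 hn hq) (n0D4 hn hq) x (homD4 hn hq 0 (dia (s' * s⁻¹)) * tD4 hn hq s t) :=
      gauss_move (rankD4 hn hq) hmono hmv hw (tD4_mem hn hq s t) h 0 hact (fun e => by
      rw [show χ = 1 from e, uE_one] at hχ; exact hne (mul_inv_eq_one.1 hχ.symm)) (s' * s⁻¹)
    rwa [dia0_tD4, inv_mul_cancel_right] at h1
  have move1 : ∀ {s t} t', P s t → uE t ^ 2 ≠ nrm (p ^ n) (uE s) → P s t' := by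
    intro s t t' h hne
    obtain ⟨χ, hχ, hact⟩ := tD4_conj1 hn hq s t
    have h1 : HasGauss (rankD4 hn hq) (n0D4 hn hq) x (homD4 hn hq 1 (dia (t' * t⁻¹)) * tD4 hn hq s t) :=
      gauss_move (rankD4 hn hq) hmono hmv hw (tD4_mem hn hq s t) h 1 hact (fun e => by
      rw [show χ = 1 from e, uE_one] at hχ; exact hne (mul_inv_eq_one.1 hχ.symm)) (t' * t⁻¹)
    rwa [dia1_tD4, inv_mul_cancel_right] at h1
  have goal : P 1 1 → HasGauss (rankD4 hn hq) (n0D4 hn hq) x 1 := fun h => by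
    simpa only [P, tD4_one] using h
  obtain ⟨h, hh, hx⟩ := exists_gauss (rankD4 hn hq) hmono hmv hw (iSup_range_D4 hn hq) x
  obtain ⟨s, t, rfl⟩ := exists_tD4 hn hq hh
  replace hx : P s t := hx
  -- a long move followed by a short one
  have key : ∀ {s t}, P s t → uE t ^ 2 ≠ nrm (p ^ n) (uE s) → uE s ^ 2 ≠ 1 → P 1 1 :=
    fun h h1 h2 => move0 1 (move1 1 h h1) (by rwa [uE_one])
  have case0 : ∀ {s t}, P s t → uE s ^ 2 ≠ uE t → P 1 1 := by
    intro s t h h0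
    obtain ⟨s', h1, h2⟩ := exists_gen hn hq3 (uE t ^ 2)
    exact key (move0 s' h h0) h2.symm h1
  refine goal ?_
  by_cases h0 : uE s ^ 2 = uE t
  swap
  · exact case0 hx h0
  by_cases hs : uE s ^ 2 = 1
  · have ht : uE t = 1 := h0 ▸ hs
    by_cases h1 : nrm (p ^ n) (uE s) = 1
    · have hS : uE s = 1 := by
        have he : uE s ^ p ^ n = uE s := by
          refine Units.ext ?_
          have h2 := congrArg Units.val hs
          rw [Units.val_pow_eq_pow_val, Units.val_one] at h2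
          rw [Units.val_pow_eq_pow_val]
          rcases sq_eq_one_iff.1 h2 with e | e
          · rw [e, one_pow]
          · rw [e]; exact neg_one_pow_expChar p n
        rw [nrm, he, he, ← sq, hs, one_mul] at h1
        exact h1
      have es : s = 1 := uE_injective (hS.trans uE_one.symm)
      have et : t = 1 := uE_injective (ht.trans uE_one.symm)
      rwa [es, et] at hx
    · obtain ⟨u, hu1, hu2⟩ := exists_gen hn hq3 1
      let t' : (↥(fieldD4 K p n 1))ˣ := Units.mk0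
        ⟨((nrm (p ^ n) (uE u) : Kˣ) : K),
          mem_fieldD4_one.2 (by rw [← Units.val_pow_eq_pow_val, nrm_fix hn])⟩
        (fun e => (nrm (p ^ n) (uE u)).ne_zero (congrArg Subtype.val e))
      refine case0 (move1 t' hx ?_) ?_
      · rw [ht, one_pow]; exact Ne.symm h1
      · rw [hs, show uE t' = nrm (p ^ n) (uE u) from Units.ext rfl]; exact hu2.symm
  · by_cases h1 : uE t ^ 2 = nrm (p ^ n) (uE s)
    · exfalso
      set S := uE s
      set T := uE t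
      have hT : T ^ p ^ n = T := uT_fix t
      have h3 : nrm (p ^ n) S ^ 2 = T ^ 3 := by
        have e1 : (S ^ p ^ n) ^ 2 = T := by rw [pow_right_comm, h0, hT]
        have e2 : ((S ^ p ^ n) ^ p ^ n) ^ 2 = T := by rw [pow_right_comm, e1, hT]
        rw [nrm, mul_pow, mul_pow, h0, e1, e2, pow_succ, pow_succ, pow_one]
      rw [← h1, ← pow_mul, show 2 * 2 = 3 + 1 from rfl, pow_add, pow_one, mul_eq_left] at h3
      exact hs (h0.trans h3)
    · exact key hx h1 hs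

end CfsgLib.TwistSquare
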