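import Cfsg.Agent.Lib.TwistMult.OrbitHom

/-!
# Gauss decompositions of conjugates in a group with rank-one data

Every element is conjugate to a product `v * h * u` of a lower unipotent, a diagonal and an upper
unipotent element, and the diagonal part can be moved along the coroots.
-/

set_option autoImplicit false
set_option linter.unusedSectionVars false

namespace CfsgLib.TwistSquare

open Cfsg.Lie CfsgLib.ChevStr CfsgLib.ChevStr.ChevCore CfsgLib.Twisted CfsgLib.TwistMult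
open scoped MatrixGroups

section sl

variable {E : Type*} [Field E]

theorem slY_eq_conj (t : E) : slY t = slW * slX (-t) * slW⁻¹ := by
  refine eq_mul_inv_of_mul_eq ?_
  ext a b
  fin_cases a <;> fin_cases b <;> simp [coe_slW', Matrix.mul_apply, Fin.sum_univ_two]

/-- The big cell meets every coset. -/
theorem sl_dXYX (g : Matrix.SpecialLinearGroup (Fin 2) E) :
    ∃ u a c b, g = dia u * slX a * slY c * slX b := by
  rcases sl_cells g with ⟨u, y, rfl⟩ | ⟨x, u, y, rfl⟩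
  · refine ⟨u, 0, 0, y, ?_⟩
    ext a b
    fin_cases a <;> fin_cases b <;>
      simp [dia, CfsgLib.Schur.slDiag_coe, Matrix.mul_apply, Fin.sum_univ_two]
  · refine ⟨u, x * ((u⁻¹ : Eˣ) : E) * ((u⁻¹ : Eˣ) : E) + 1, -1, 1 + y, ?_⟩
    have hu : (u : E) ≠ 0 := u.ne_zero
    ext a b
    fin_cases a <;> fin_cases b <;>
      simp [dia, CfsgLib.Schur.slDiag_coe, coe_slW', Matrix.mul_apply, Fin.sum_univ_two] <;>
      field_simp <;> ring

/-- A twisted conjugate with a prescribed upper left entry has the shape `Y · dia r · X`. -/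
theorem exists_move {v : Eˣ} (hv : v ≠ 1) (a b : E) (r : Eˣ) :
    ∃ k a' b', k * slY a * RegTorus.slDiag v (slX b * k⁻¹) =
      slY a' * dia r * RegTorus.slDiag v (slX b') := by
  suffices h : ∃ k, ((k * slY a * RegTorus.slDiag v (slX b * k⁻¹) :
      Matrix.SpecialLinearGroup (Fin 2) E) : Matrix (Fin 2) (Fin 2) E) 0 0 = (r : E) by
    obtain ⟨k, hk⟩ := h
    refine ⟨k, ?_⟩
    generalize k * slY a * RegTorus.slDiag v (slX b * k⁻¹) = M at hk ⊢
    refine ⟨(M : Matrix (Fin 2) (Fin 2) E) 1 0 * ((r⁻¹ : Eˣ) : E),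
      (M : Matrix (Fin 2) (Fin 2) E) 0 1 * ((r⁻¹ : Eˣ) : E) * ((v⁻¹ : Eˣ) : E), ?_⟩
    have hd := sl_det M
    rw [hk] at hd
    have hr : (r : E) ≠ 0 := r.ne_zero
    have hv0 : (v : E) ≠ 0 := v.ne_zero
    rw [conjDia_slX]
    ext i j
    fin_cases i <;> fin_cases j <;>
      simp [dia, CfsgLib.Schur.slDiag_coe, Matrix.mul_apply, Fin.sum_univ_two, hk] <;> field_simp
    linear_combination hd
  have hv0 : (v : E) ≠ 0 := v.ne_zero
  have hv1 : (1 : E) - v ≠ 0 := fun h => hv (Units.ext (sub_eq_zero.1 h).symm)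
  by_cases hb : b = 0
  · subst hb
    by_cases ha : a = 0
    · subst ha
      refine ⟨slY ((1 - (r : E)) * v / (1 - v)) * slX 1, ?_⟩
      simp [RegTorus.slDiag, Matrix.mul_apply, Fin.sum_univ_two, Matrix.SpecialLinearGroup.coe_inv,
        Matrix.adjugate_fin_two]
      field_simp
      ring
    · refine ⟨slX (((r : E) - 1) / a), ?_⟩
      simp [RegTorus.slDiag, Matrix.mul_apply, Fin.sum_univ_two, Matrix.SpecialLinearGroup.coe_inv,
        Matrix.adjugate_fin_two]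
      field_simp
      ring
  · refine ⟨slY ((1 - (r : E)) / b), ?_⟩
    simp [RegTorus.slDiag, Matrix.mul_apply, Fin.sum_univ_two, Matrix.SpecialLinearGroup.coe_inv,
      Matrix.adjugate_fin_two]
    field_simp
    ring

end sl

universe u

variable {D : ChevalleyDatum} {K : Type u} [Field K] [Fintype K] {C : ChevCore D K} {φ : Frob C}
  {I : Type} {O : OrbitData C.R φ.ρ I} {G1 : Subgroup (GL D.Idx K)} {d : ℕ} {g : Gens φ O G1 d}
  (R : RankOneData g)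

/-- The diagonal elements. -/
def tor (_R : RankOneData g) : Subgroup ↥G1 := (D.diagonalSubgroup K).subgroupOf G1

/-- The complement of an orbit group. -/
def outU (_R : RankOneData g) (i : I) : Subgroup ↥G1 :=
  (C.Ucl (outRoots C.R (O.J i))).subgroupOf G1

variable (n0 : ↥G1)

/-- The lower unipotent elements. -/
def low : Subgroup ↥G1 := R.upper.comap (MulAut.conj n0⁻¹).toMonoidHom

/-- The complement of a lower orbit group. -/
def outV (i : I) : Subgroup ↥G1 := (outU R i).comap (MulAut.conj n0⁻¹).toMonoidHom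

theorem mem_low {x : ↥G1} : x ∈ low R n0 ↔ n0⁻¹ * x * n0 ∈ R.upper := by
  show (MulAut.conj n0⁻¹) x ∈ R.upper ↔ _
  rw [MulAut.conj_apply, inv_inv]

theorem mem_outV {i : I} {x : ↥G1} : x ∈ outV R n0 i ↔ n0⁻¹ * x * n0 ∈ outU R i := by
  show (MulAut.conj n0⁻¹) x ∈ outU R i ↔ _
  rw [MulAut.conj_apply, inv_inv]

theorem outU_le (i : I) : outU R i ≤ R.upper := fun _ hx => Ucl_out_le C _ hx

theorem outV_le (i : I) : outV R n0 i ≤ low R n0 := fun _ hx => outU_le R i hx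

theorem X_mem_upper (i : I) (t : ↥(R.E i)) : R.hom i (slX t) ∈ R.upper := R.hom_X_mem_U i t

theorem dia_mem_tor (i : I) (u : (↥(R.E i))ˣ) : R.hom i (dia u) ∈ tor R := R.dia_tor i u

theorem upper_split (i : I) {u : ↥G1} (hu : u ∈ R.upper) :
    ∃ t, ∃ c ∈ outU R i, u = R.hom i (slX t) * c := by
  obtain ⟨a, ha, c, hc, he⟩ := exists_split C (O.J i) hu
  replace he : (u : GL D.Idx K) = a * c := he
  obtain ⟨haf, -⟩ := O.split_fixed i ha hc (he ▸ g.le_fixed u.2)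
  obtain ⟨t, ht⟩ := R.X_surj i a (Subgroup.mem_inf.2 ⟨ha, haf⟩)
  refine ⟨t, (R.hom i (slX t))⁻¹ * u, ?_, by rw [mul_inv_cancel_left]⟩
  show ((R.hom i (slX t) : GL D.Idx K))⁻¹ * (u : GL D.Idx K) ∈ C.Ucl (outRoots C.R (O.J i))
  rw [ht, he, inv_mul_cancel_left]
  exact hc

theorem hom_normalizes (i : I) : ∀ s, ∀ x ∈ outU R i, R.hom i s * x * (R.hom i s)⁻¹ ∈ outU R i := by
  have hX : ∀ t, ∀ x ∈ outU R i, R.hom i (slX t) * x * (R.hom i (slX t))⁻¹ ∈ outU R i := by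
    intro t x hx
    have hn : C.Ucl (inRoots C.R (O.J i)) ≤
        Subgroup.normalizer (C.Ucl (outRoots C.R (O.J i)) : Set (GL D.Idx K)) :=
      C.Ucl_le fun r hr t =>
        C.pos_normalizes hr.1 (fun s hs => hs.1) (fun s hs k hk => combo_out C _ hr.1 hs hk) t
    exact (Subgroup.mem_normalizer_iff.1 (hn (Subgroup.mem_inf.1 (R.X_in i t)).1) _).1 hx
  have hW : ∀ x ∈ outU R i, R.hom i slW * x * (R.hom i slW)⁻¹ ∈ outU R i := fun x hx =>
    conj_out (R.W_moves i) (g.wJ_mem i) _ hx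
  have hW' : ∀ x ∈ outU R i, (R.hom i slW)⁻¹ * x * (R.hom i slW) ∈ outU R i := fun x hx => by
    have h := conj_out (ChevCore.Moves.inv C (R.W_mono i) (R.W_moves i)) (inv_mem (g.wJ_mem i)) _ hx
    rwa [inv_inv] at h
  intro s
  refine sl_decomp (fun s => ∀ x ∈ outU R i, R.hom i s * x * (R.hom i s)⁻¹ ∈ outU R i) hX
    (fun t x hx => ?_) (fun s s' h h' x hx => ?_) s
  · rw [slY_eq_conj, map_mul, map_mul, map_inv]
    have := hW _ (hX (-t) _ (hW' x hx))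
    simpa [mul_assoc] using this
  · rw [map_mul]
    simpa [mul_assoc] using h _ (h' x hx)

theorem tor_upper {h : ↥G1} (hh : h ∈ tor R) {x : ↥G1} (hx : x ∈ R.upper) :
    h * x * h⁻¹ ∈ R.upper :=
  (Subgroup.mem_normalizer_iff.1 (C.diagonal_normalizes_pos hh) _).1 hx

theorem tor_outU (i : I) {h : ↥G1} (hh : h ∈ tor R) {x : ↥G1} (hx : x ∈ outU R i) :
    h * x * h⁻¹ ∈ outU R i :=
  (Subgroup.mem_normalizer_iff.1 (C.torus_normalizes _ (C.diagonalSubgroup_eq ▸ hh)) _).1 hx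

/-- The whole torus acts on every rank-one group through a twist. -/
theorem tor_conj_all {h : ↥G1} (hh : h ∈ tor R) (i : I) :
    ∃ v : (↥(R.E i))ˣ, ∀ s, h * R.hom i s * h⁻¹ = R.hom i (RegTorus.slDiag v s) := by
  obtain ⟨v, hX, hY⟩ := R.tor_conj h hh i
  refine ⟨v, fun s => sl_decomp (fun s => h * R.hom i s * h⁻¹ = R.hom i (RegTorus.slDiag v s))
    hX hY (fun s s' e e' => ?_) s⟩
  rw [map_mul (RegTorus.slDiag v), map_mul, map_mul, ← e, ← e']
  group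

section n0

variable {n0} {w0 : Equiv.Perm (Fin D.nroots)} (hn0 : (n0 : GL D.Idx K) ∈ D.monomialSubgroup K)
  (hmv : C.Moves (n0 : GL D.Idx K) w0) (hw0 : ∀ s : Fin D.nroots, (w0 s : ℕ) = D.neg s)
include hn0 hmv hw0

theorem w0_negIn (i : I) {r : Fin D.nroots} (hr : (r : ℕ) ∈ inRoots C.R (O.J i)) :
    (w0 r : ℕ) ∈ negRootsIn C.R (O.J i) := by
  rw [hw0]
  exact ⟨(C.R.isNeg_neg_iff r.isLt).2 hr.1, fun m hm => by
    rw [C.R.α_neg _ r.isLt, Pi.neg_apply, hr.2 m hm, neg_zero]⟩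

theorem w0_in (i : I) {r : Fin D.nroots} (hr : (r : ℕ) ∈ negRootsIn C.R (O.J i)) :
    (w0 r : ℕ) ∈ inRoots C.R (O.J i) := by
  rw [hw0]
  exact ⟨(C.R.isPos_neg_iff r.isLt).2 hr.1, fun m hm => by
    rw [C.R.α_neg _ r.isLt, Pi.neg_apply, hr.2 m hm, neg_zero]⟩

theorem neg_exists_Y (i : I) {a : ↥G1} (ha : (a : GL D.Idx K) ∈ C.Ucl (negRootsIn C.R (O.J i))) :
    ∃ t, R.hom i (slY t) = a := by
  set W := R.hom i slW with hW
  have hb : ((W * a * W⁻¹ : ↥G1) : GL D.Idx K) ∈ φ.fixU (inRoots C.R (O.J i)) :=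
    Subgroup.mem_inf.2 ⟨C.conj_Ucl_le (R.W_moves i) (T := C.Ucl (inRoots C.R (O.J i)))
      (fun r hr t => C.xGL_mem_Ucl (wJ_pos_of_negIn g i hr) t) _ ha,
      g.le_fixed (W * a * W⁻¹).2⟩
  obtain ⟨t, ht⟩ := R.X_surj i _ hb
  refine ⟨-t, ?_⟩
  have e : (slY (-t) : Matrix.SpecialLinearGroup (Fin 2) ↥(R.E i)) = slW⁻¹ * slX t * slW := by
    rw [mul_assoc, eq_inv_mul_iff_mul_eq]
    ext a b
    fin_cases a <;> fin_cases b <;> simp [coe_slW', Matrix.mul_apply, Fin.sum_univ_two]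
  rw [e, map_mul, map_mul, map_inv, ← hW, show R.hom i (slX t) = W * a * W⁻¹ from Subtype.ext ht]
  group

theorem n0_X (i : I) (t : ↥(R.E i)) : ∃ t', n0 * R.hom i (slX t) * n0⁻¹ = R.hom i (slY t') := by
  obtain ⟨t', ht'⟩ := neg_exists_Y R hn0 hmv hw0 i (a := n0 * R.hom i (slX t) * n0⁻¹)
    (C.conj_Ucl_le hmv (T := C.Ucl (negRootsIn C.R (O.J i)))
      (fun r hr t => C.xGL_mem_Ucl (w0_negIn hn0 hmv hw0 i hr) t) _
      (Subgroup.mem_inf.1 (R.X_in i t)).1)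
  exact ⟨t', ht'.symm⟩

theorem n0_range (i : I) (s : Matrix.SpecialLinearGroup (Fin 2) ↥(R.E i)) :
    ∃ s', n0 * R.hom i s * n0⁻¹ = R.hom i s' := by
  refine sl_decomp (fun s => ∃ s', n0 * R.hom i s * n0⁻¹ = R.hom i s')
    (fun t => let ⟨t', e⟩ := n0_X R hn0 hmv hw0 i t; ⟨_, e⟩) (fun t => ?_) (fun a b ⟨a', ea⟩ ⟨b', eb⟩ => ?_) s
  · have hneg : (R.hom i (slY t) : GL D.Idx K) ∈ C.Ucl (negRootsIn C.R (O.J i)) := by
      rw [slY_eq_conj, map_mul, map_mul, map_inv]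
      exact conj_in (R.W_moves i) (g.wJ_mem i) (g.wJ_neg i) _ (Subgroup.mem_inf.1 (R.X_in i (-t))).1
    have hb : ((n0 * R.hom i (slY t) * n0⁻¹ : ↥G1) : GL D.Idx K) ∈ φ.fixU (inRoots C.R (O.J i)) :=
      Subgroup.mem_inf.2 ⟨C.conj_Ucl_le hmv (T := C.Ucl (inRoots C.R (O.J i)))
        (fun r hr t => C.xGL_mem_Ucl (w0_in hn0 hmv hw0 i hr) t) _ hneg,
        g.le_fixed (n0 * R.hom i (slY t) * n0⁻¹).2⟩
    obtain ⟨t', ht⟩ := R.X_surj i _ hb
    exact ⟨_, (Subtype.ext ht).symm⟩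
  · exact ⟨a' * b', by rw [map_mul, map_mul, ← ea, ← eb]; group⟩

theorem moves_inv : ((n0⁻¹ : ↥G1) : GL D.Idx K) ∈ D.monomialSubgroup K ∧
    C.Moves ((n0⁻¹ : ↥G1) : GL D.Idx K) w0⁻¹ ∧ ∀ s : Fin D.nroots, ((w0⁻¹ : Equiv.Perm _) s : ℕ) = D.neg s := by
  refine ⟨inv_mem hn0, ChevCore.Moves.inv C hn0 hmv, fun s => ?_⟩
  have h : w0 ⟨D.neg s, C.R.neg_lt s s.isLt⟩ = s := Fin.ext (by rw [hw0, C.R.neg_neg _ s.isLt])
  rw [show (w0⁻¹ : Equiv.Perm _) s = ⟨D.neg s, C.R.neg_lt s s.isLt⟩ from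
    (Equiv.Perm.inv_eq_iff_eq).2 h.symm]

theorem hom_normalizes_V (i : I) (s : Matrix.SpecialLinearGroup (Fin 2) ↥(R.E i)) {x : ↥G1}
    (hx : x ∈ outV R n0 i) : R.hom i s * x * (R.hom i s)⁻¹ ∈ outV R n0 i := by
  obtain ⟨h1, h2, h3⟩ := moves_inv hn0 hmv hw0
  obtain ⟨s', hs'⟩ := n0_range R h1 h2 h3 i s
  rw [inv_inv] at hs'
  rw [mem_outV] at hx ⊢
  have := hom_normalizes R i s' _ hx
  rw [← hs'] at this
  simpa [mul_assoc] using this

theorem low_split (i : I) {v : ↥G1} (hv : v ∈ low R n0) :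
    ∃ t, ∃ c ∈ outV R n0 i, v = R.hom i (slY t) * c := by
  obtain ⟨t, c, hc, e⟩ := upper_split R i ((mem_low R n0).1 hv)
  obtain ⟨t', ht'⟩ := n0_X R hn0 hmv hw0 i t
  refine ⟨t', n0 * c * n0⁻¹, by rw [mem_outV]; simpa [mul_assoc] using hc, ?_⟩
  rw [← ht']
  calc v = n0 * (n0⁻¹ * v * n0) * n0⁻¹ := by group
    _ = _ := by rw [e]; group

theorem Y_mem_low (i : I) (t : ↥(R.E i)) : R.hom i (slY t) ∈ low R n0 := by
  obtain ⟨h1, h2, h3⟩ := moves_inv hn0 hmv hw0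
  rw [mem_low]
  have hneg : (R.hom i (slY t) : GL D.Idx K) ∈ C.Ucl (negRootsIn C.R (O.J i)) := by
    rw [slY_eq_conj, map_mul, map_mul, map_inv]
    exact conj_in (R.W_moves i) (g.wJ_mem i) (g.wJ_neg i) _ (Subgroup.mem_inf.1 (R.X_in i (-t))).1
  have h := C.conj_Ucl_le h2 (T := D.posUnipotent K)
    (fun r hr t => C.xGL_mem_posUnipotent (w0_in h1 h2 h3 i hr).1 t) _ hneg
  show ((n0⁻¹ * R.hom i (slY t) * n0 : ↥G1) : GL D.Idx K) ∈ D.posUnipotent K
  simpa using h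

theorem tor_low {h : ↥G1} (hh : h ∈ tor R) {x : ↥G1} (hx : x ∈ low R n0) :
    h * x * h⁻¹ ∈ low R n0 := by
  rw [mem_low] at hx ⊢
  have hh' : n0⁻¹ * h * n0 ∈ tor R := by
    have h' := C.conj_diagonal_mem (inv_mem hn0) hh
    simpa [tor, Subgroup.mem_subgroupOf] using h'
  have := tor_upper R hh' hx
  simpa [mul_assoc] using this

variable (hgen : (⨆ i, (R.hom i).range) = ⊤)
include hgen

/-- Every element is a product of upper, diagonal, lower and upper elements. -/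
theorem exists_UHVU (x : ↥G1) :
    ∃ u ∈ R.upper, ∃ h ∈ tor R, ∃ v ∈ low R n0, ∃ u' ∈ R.upper, x = u * h * v * u' := by
  have hx : x ∈ ⨆ i, (R.hom i).range := hgen ▸ Subgroup.mem_top x
  rw [Subgroup.iSup_eq_closure] at hx
  have step : ∀ i s y, (∃ u ∈ R.upper, ∃ h ∈ tor R, ∃ v ∈ low R n0, ∃ u' ∈ R.upper,
      y = u * h * v * u') → ∃ u ∈ R.upper, ∃ h ∈ tor R, ∃ v ∈ low R n0, ∃ u' ∈ R.upper,
      R.hom i s * y = u * h * v * u' := by
    rintro i s _ ⟨u, hu, h, hh, v, hv, u', hu', rfl⟩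
    obtain ⟨t, c, hc, rfl⟩ := upper_split R i hu
    obtain ⟨z, w, hw, rfl⟩ := low_split R hn0 hmv hw0 i hv
    have hX := X_mem_upper R i t
    obtain ⟨χ, hχ⟩ := tor_conj_all R (inv_mem hh) i
    -- move the complement to the front
    set c1 := R.hom i s * R.hom i (slX t) * c * (R.hom i s * R.hom i (slX t))⁻¹ with hc1
    have hc1m : c1 ∈ R.upper := by
      rw [hc1, ← map_mul]; exact outU_le R i (hom_normalizes R i _ c hc)
    obtain ⟨r, a, e, b, he⟩ := sl_dXYX (RegTorus.slDiag χ (s * slX t) * slY z)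
    have hD : h * R.hom i (dia r) ∈ tor R := mul_mem hh (dia_mem_tor R i r)
    refine ⟨c1 * (h * R.hom i (dia r) * R.hom i (slX a) * (h * R.hom i (dia r))⁻¹),
      mul_mem hc1m (tor_upper R hD (X_mem_upper R i a)), h * R.hom i (dia r), hD,
      R.hom i (slY e) * (R.hom i (slX b) * w * (R.hom i (slX b))⁻¹),
      mul_mem (Y_mem_low R hn0 hmv hw0 i e) (outV_le R n0 i (hom_normalizes_V R hn0 hmv hw0 i _ hw)),
      R.hom i (slX b) * u', mul_mem (X_mem_upper R i b) hu', ?_⟩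
    have e1 : R.hom i (RegTorus.slDiag χ (s * slX t)) = h⁻¹ * R.hom i (s * slX t) * h := by
      rw [← hχ, inv_inv]
    have e2 : h⁻¹ * R.hom i (s * slX t) * h * R.hom i (slY z) =
        R.hom i (dia r) * R.hom i (slX a) * R.hom i (slY e) * R.hom i (slX b) := by
      rw [← e1, ← map_mul, he, map_mul, map_mul, map_mul]
    calc R.hom i s * (R.hom i (slX t) * c * h * (R.hom i (slY z) * w) * u')
        = c1 * h * (h⁻¹ * R.hom i (s * slX t) * h * R.hom i (slY z)) * w * u' := by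
          rw [hc1, map_mul]; group
      _ = _ := by rw [e2]; group
  induction hx using Subgroup.closure_induction_left with
  | one => exact ⟨1, one_mem _, 1, one_mem _, 1, one_mem _, 1, one_mem _, by group⟩
  | mul_left a ha y _ ih =>
    obtain ⟨i, s, rfl⟩ := Set.mem_iUnion.1 ha
    exact step i s y ih
  | inv_mul_cancel a ha y _ ih =>
    obtain ⟨i, s, rfl⟩ := Set.mem_iUnion.1 ha
    rw [← map_inv]
    exact step i s⁻¹ y ih

omit hgen

/-- Some conjugate of `x` has diagonal part `h`. -/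
def HasGauss (n0 : ↥G1) (x h : ↥G1) : Prop :=
  ∃ a, ∃ v ∈ low R n0, ∃ u ∈ R.upper, a * x * a⁻¹ = v * h * u

include hgen in
theorem exists_gauss (x : ↥G1) : ∃ h ∈ tor R, HasGauss R n0 x h := by
  obtain ⟨u, hu, h, hh, v, hv, u', hu', e⟩ := exists_UHVU R hn0 hmv hw0 hgen x
  refine ⟨h, hh, u⁻¹, h * v * h⁻¹, tor_low R hn0 hmv hw0 hh hv, u' * u, mul_mem hu' hu, ?_⟩
  rw [e]; group

omit hgen

/-- The diagonal part moves along a coroot on which it acts non-trivially. -/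
theorem gauss_move {x h : ↥G1} (hh : h ∈ tor R) (hx : HasGauss R n0 x h) (i : I)
    {χ : (↥(R.E i))ˣ} (hχ : ∀ s, h * R.hom i s * h⁻¹ = R.hom i (RegTorus.slDiag χ s))
    (hne : χ ≠ 1) (r : (↥(R.E i))ˣ) : HasGauss R n0 x (R.hom i (dia r) * h) := by
  obtain ⟨a, v, hv, u, hu, e⟩ := hx
  obtain ⟨z, w, hw, rfl⟩ := low_split R hn0 hmv hw0 i hv
  obtain ⟨t, c, hc, rfl⟩ := upper_split R i hu
  obtain ⟨k, z', t', hk⟩ := exists_move hne z t r
  set κ := R.hom i k with hκ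
  set w' := R.hom i (slY z) * w * (R.hom i (slY z))⁻¹ with hw'
  have hw'm : w' ∈ outV R n0 i := hom_normalizes_V R hn0 hmv hw0 i _ hw
  refine ⟨κ * a, κ * w' * κ⁻¹ * R.hom i (slY z'),
    mul_mem (outV_le R n0 i (hom_normalizes_V R hn0 hmv hw0 i k hw'm))
      (Y_mem_low R hn0 hmv hw0 i z'),
    R.hom i (slX t') * (κ * c * κ⁻¹),
    mul_mem (X_mem_upper R i t') (outU_le R i (hom_normalizes R i k c hc)), ?_⟩
  have e1 : κ * R.hom i (slY z) * h * R.hom i (slX t) * κ⁻¹ =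
      R.hom i (slY z') * (R.hom i (dia r) * h) * R.hom i (slX t') := by
    have h1 : κ * R.hom i (slY z) * h * R.hom i (slX t) * κ⁻¹ =
        R.hom i (k * slY z * RegTorus.slDiag χ (slX t * k⁻¹)) * h := by
      rw [map_mul, map_mul, ← hχ, map_mul, map_inv, hκ]; group
    rw [h1, hk, map_mul, map_mul, ← hχ]
    group
  calc κ * a * x * (κ * a)⁻¹ = κ * (a * x * a⁻¹) * κ⁻¹ := by group
    _ = κ * w' * κ⁻¹ * (κ * R.hom i (slY z) * h * R.hom i (slX t) * κ⁻¹) * (κ * c * κ⁻¹) := by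
        rw [e, hw']; group
    _ = _ := by rw [e1]; group

end n0

/-- An element acting without fixed points on a finite subgroup: the whole coset is one class. -/
theorem coset_conj {G : Type*} [Group G] {N : Subgroup G} [Finite N] {x : G}
    (hN : ∀ n ∈ N, x * n * x⁻¹ ∈ N) (hfix : ∀ n ∈ N, x * n * x⁻¹ = n → n = 1) :
    (∀ v ∈ N, ∃ w ∈ N, v * x = w * x * w⁻¹) ∧ ∀ v ∈ N, ∃ w ∈ N, x * v = w * x * w⁻¹ := by
  let f : N → N := fun w => ⟨(w : G) * (x * (w : G)⁻¹ * x⁻¹), mul_mem w.2 (hN _ (inv_mem w.2))⟩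
  have hf : Function.Injective f := by
    intro a b h
    have h' : (a : G) * (x * (a : G)⁻¹ * x⁻¹) = b * (x * (b : G)⁻¹ * x⁻¹) := congrArg Subtype.val h
    have h2 : x * ((b : G)⁻¹ * a) * x⁻¹ = (b : G)⁻¹ * a := by
      calc x * ((b : G)⁻¹ * a) * x⁻¹ = (b : G)⁻¹ * (b * (x * (b : G)⁻¹ * x⁻¹)) * (x * a * x⁻¹) := by
            group
        _ = _ := by rw [← h']; group
    exact Subtype.ext (inv_mul_eq_one.1 (hfix _ (mul_mem (inv_mem b.2) a.2) h2)).symm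
  have hsurj := Finite.surjective_of_injective hf
  refine ⟨fun v hv => ?_, fun v hv => ?_⟩
  · obtain ⟨w, hw⟩ := hsurj ⟨v, hv⟩
    refine ⟨w, w.2, ?_⟩
    have e : (w : G) * (x * (w : G)⁻¹ * x⁻¹) = v := congrArg Subtype.val hw
    rw [← e]
    group
  · obtain ⟨w, hw⟩ := hsurj ⟨x * v * x⁻¹, hN v hv⟩
    refine ⟨w, w.2, ?_⟩
    have e : (w : G) * (x * (w : G)⁻¹ * x⁻¹) = x * v * x⁻¹ := congrArg Subtype.val hw
    calc x * v = x * v * x⁻¹ * x := by group
      _ = _ := by rw [← e]; group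

end CfsgLib.TwistSquare
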